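import Mathlib.Data.Nat.Notation
set_option autoImplicit false

/-! # The relators of the O'Nan group as words in the eight letters, with the sums of the labels -/

namespace Cfsg.Agent.Lib.Helper4.ONM

/-- the relators (the base words of the coset enumeration) with the sums of the labels along them -/
def WL : List (List ℕ × ℕ) :=
  [([2, 2], 0),
  ([3, 3], 0),
  ([4, 4], 0),
  ([5, 5], 0),
  ([6, 6], 0),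
  ([7, 7], 0),
  ([2, 3, 2, 3, 2, 3], 0),
  ([2, 4, 2, 4], 0),
  ([2, 5, 2, 5], 0),
  ([2, 6, 2, 6], 0),
  ([2, 7, 2, 7], 0),
  ([3, 4, 3, 4, 3, 4], 0),
  ([3, 5, 3, 5], 0),
  ([3, 6, 3, 6], 0),
  ([3, 7, 3, 7], 0),
  ([4, 5, 4, 5, 4, 5, 4, 5, 4, 5, 4, 5, 4, 5, 4, 5], 0),
  ([4, 6, 4, 6], 0),
  ([4, 7, 4, 7], 0),
  ([5, 6, 5, 6, 5, 6], 0),
  ([5, 7, 5, 7], 0),
  ([6, 7, 6, 7, 6, 7], 0),
  ([2, 7, 1, 1], 0),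
  ([2, 7, 5, 4, 5, 4, 5, 4, 5, 4], 0),
  ([4, 1, 5, 1, 5, 4, 5, 0, 5, 0], 0),
  ([5, 1, 4, 1, 4, 5, 4, 0, 4, 0], 0),
  ([3, 4, 5, 0, 3, 4, 5, 0, 3, 4, 5, 0, 3, 4, 5, 0, 3, 4, 5, 0], 2),
  ([0, 3, 4, 0, 4, 3, 0, 3, 4, 0, 4], 2),
  ([0, 6, 5, 0, 5, 6, 0, 6, 5, 0, 5], 2),
  ([0, 1], 0)]

end Cfsg.Agent.Lib.Helper4.ONM
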