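import Cfsg.Agent.Lib.Helper4.ONM.Walk
import Cfsg.Agent.Lib.Helper4.ONM.Words
import Cfsg.Agent.Lib.Helper4.ONM.LB
import Cfsg.Agent.Lib.Helper6.TCD.ONa.Par
set_option autoImplicit false
set_option maxRecDepth 1000000
set_option Elab.async false
namespace Cfsg.Agent.Lib.Helper4.ONM
open Cfsg.Agent.Lib.Helper6.TCD Cfsg.Agent.Lib.Helper6.TC
theorem c_w_0 : chkRange ONa.px lb 3 WL 0 512 = true := by decide +kernel
theorem c_w_1 : chkRange ONa.px lb 3 WL 512 512 = true := by decide +kernel
theorem c_w_2 : chkRange ONa.px lb 3 WL 1024 512 = true := by decide +kernel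
theorem c_w_3 : chkRange ONa.px lb 3 WL 1536 512 = true := by decide +kernel
theorem c_w_4 : chkRange ONa.px lb 3 WL 2048 512 = true := by decide +kernel
theorem c_w_5 : chkRange ONa.px lb 3 WL 2560 512 = true := by decide +kernel
theorem c_w_6 : chkRange ONa.px lb 3 WL 3072 512 = true := by decide +kernel
theorem c_w_7 : chkRange ONa.px lb 3 WL 3584 512 = true := by decide +kernel
theorem c_w_8 : chkRange ONa.px lb 3 WL 4096 512 = true := by decide +kernel
theorem c_w_9 : chkRange ONa.px lb 3 WL 4608 512 = true := by decide +kernel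
theorem c_w_10 : chkRange ONa.px lb 3 WL 5120 512 = true := by decide +kernel
theorem c_w_11 : chkRange ONa.px lb 3 WL 5632 512 = true := by decide +kernel
theorem c_w_12 : chkRange ONa.px lb 3 WL 6144 512 = true := by decide +kernel
theorem c_w_13 : chkRange ONa.px lb 3 WL 6656 512 = true := by decide +kernel
theorem c_w_14 : chkRange ONa.px lb 3 WL 7168 512 = true := by decide +kernel
theorem c_w_15 : chkRange ONa.px lb 3 WL 7680 512 = true := by decide +kernel
theorem c_w_16 : chkRange ONa.px lb 3 WL 8192 512 = true := by decide +kernel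
theorem c_w_17 : chkRange ONa.px lb 3 WL 8704 512 = true := by decide +kernel
theorem c_w_18 : chkRange ONa.px lb 3 WL 9216 512 = true := by decide +kernel
theorem c_w_19 : chkRange ONa.px lb 3 WL 9728 512 = true := by decide +kernel
theorem c_w_20 : chkRange ONa.px lb 3 WL 10240 512 = true := by decide +kernel
theorem c_w_21 : chkRange ONa.px lb 3 WL 10752 512 = true := by decide +kernel
theorem c_w_22 : chkRange ONa.px lb 3 WL 11264 512 = true := by decide +kernel
theorem c_w_23 : chkRange ONa.px lb 3 WL 11776 512 = true := by decide +kernel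
theorem c_w_24 : chkRange ONa.px lb 3 WL 12288 512 = true := by decide +kernel
theorem c_w_25 : chkRange ONa.px lb 3 WL 12800 512 = true := by decide +kernel
theorem c_w_26 : chkRange ONa.px lb 3 WL 13312 512 = true := by decide +kernel
theorem c_w_27 : chkRange ONa.px lb 3 WL 13824 512 = true := by decide +kernel
theorem c_w_28 : chkRange ONa.px lb 3 WL 14336 512 = true := by decide +kernel
theorem c_w_29 : chkRange ONa.px lb 3 WL 14848 512 = true := by decide +kernel

/-- the walks of the relators on the points from 0 to 15360 -/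
theorem walk_ok_0 (j : ℕ) (h1 : 0 ≤ j) (h2 : j < 15360) :
    ∀ we ∈ WL, wapp ONa.px we.1 j = j ∧ (lsum ONa.px lb we.1 j) % 3 = we.2 := by
  rcases Nat.lt_or_ge j 512 with g0 | g0
  · exact chkRange_spec ONa.px lb 3 WL 0 512 c_w_0 j (by omega) (by omega)
  rcases Nat.lt_or_ge j 1024 with g1 | g1
  · exact chkRange_spec ONa.px lb 3 WL 512 512 c_w_1 j (by omega) (by omega)
  rcases Nat.lt_or_ge j 1536 with g2 | g2
  · exact chkRange_spec ONa.px lb 3 WL 1024 512 c_w_2 j (by omega) (by omega)
  rcases Nat.lt_or_ge j 2048 with g3 | g3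
  · exact chkRange_spec ONa.px lb 3 WL 1536 512 c_w_3 j (by omega) (by omega)
  rcases Nat.lt_or_ge j 2560 with g4 | g4
  · exact chkRange_spec ONa.px lb 3 WL 2048 512 c_w_4 j (by omega) (by omega)
  rcases Nat.lt_or_ge j 3072 with g5 | g5
  · exact chkRange_spec ONa.px lb 3 WL 2560 512 c_w_5 j (by omega) (by omega)
  rcases Nat.lt_or_ge j 3584 with g6 | g6
  · exact chkRange_spec ONa.px lb 3 WL 3072 512 c_w_6 j (by omega) (by omega)
  rcases Nat.lt_or_ge j 4096 with g7 | g7
  · exact chkRange_spec ONa.px lb 3 WL 3584 512 c_w_7 j (by omega) (by omega)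
  rcases Nat.lt_or_ge j 4608 with g8 | g8
  · exact chkRange_spec ONa.px lb 3 WL 4096 512 c_w_8 j (by omega) (by omega)
  rcases Nat.lt_or_ge j 5120 with g9 | g9
  · exact chkRange_spec ONa.px lb 3 WL 4608 512 c_w_9 j (by omega) (by omega)
  rcases Nat.lt_or_ge j 5632 with g10 | g10
  · exact chkRange_spec ONa.px lb 3 WL 5120 512 c_w_10 j (by omega) (by omega)
  rcases Nat.lt_or_ge j 6144 with g11 | g11
  · exact chkRange_spec ONa.px lb 3 WL 5632 512 c_w_11 j (by omega) (by omega)
  rcases Nat.lt_or_ge j 6656 with g12 | g12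
  · exact chkRange_spec ONa.px lb 3 WL 6144 512 c_w_12 j (by omega) (by omega)
  rcases Nat.lt_or_ge j 7168 with g13 | g13
  · exact chkRange_spec ONa.px lb 3 WL 6656 512 c_w_13 j (by omega) (by omega)
  rcases Nat.lt_or_ge j 7680 with g14 | g14
  · exact chkRange_spec ONa.px lb 3 WL 7168 512 c_w_14 j (by omega) (by omega)
  rcases Nat.lt_or_ge j 8192 with g15 | g15
  · exact chkRange_spec ONa.px lb 3 WL 7680 512 c_w_15 j (by omega) (by omega)
  rcases Nat.lt_or_ge j 8704 with g16 | g16
  · exact chkRange_spec ONa.px lb 3 WL 8192 512 c_w_16 j (by omega) (by omega)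
  rcases Nat.lt_or_ge j 9216 with g17 | g17
  · exact chkRange_spec ONa.px lb 3 WL 8704 512 c_w_17 j (by omega) (by omega)
  rcases Nat.lt_or_ge j 9728 with g18 | g18
  · exact chkRange_spec ONa.px lb 3 WL 9216 512 c_w_18 j (by omega) (by omega)
  rcases Nat.lt_or_ge j 10240 with g19 | g19
  · exact chkRange_spec ONa.px lb 3 WL 9728 512 c_w_19 j (by omega) (by omega)
  rcases Nat.lt_or_ge j 10752 with g20 | g20
  · exact chkRange_spec ONa.px lb 3 WL 10240 512 c_w_20 j (by omega) (by omega)
  rcases Nat.lt_or_ge j 11264 with g21 | g21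
  · exact chkRange_spec ONa.px lb 3 WL 10752 512 c_w_21 j (by omega) (by omega)
  rcases Nat.lt_or_ge j 11776 with g22 | g22
  · exact chkRange_spec ONa.px lb 3 WL 11264 512 c_w_22 j (by omega) (by omega)
  rcases Nat.lt_or_ge j 12288 with g23 | g23
  · exact chkRange_spec ONa.px lb 3 WL 11776 512 c_w_23 j (by omega) (by omega)
  rcases Nat.lt_or_ge j 12800 with g24 | g24
  · exact chkRange_spec ONa.px lb 3 WL 12288 512 c_w_24 j (by omega) (by omega)
  rcases Nat.lt_or_ge j 13312 with g25 | g25
  · exact chkRange_spec ONa.px lb 3 WL 12800 512 c_w_25 j (by omega) (by omega)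
  rcases Nat.lt_or_ge j 13824 with g26 | g26
  · exact chkRange_spec ONa.px lb 3 WL 13312 512 c_w_26 j (by omega) (by omega)
  rcases Nat.lt_or_ge j 14336 with g27 | g27
  · exact chkRange_spec ONa.px lb 3 WL 13824 512 c_w_27 j (by omega) (by omega)
  rcases Nat.lt_or_ge j 14848 with g28 | g28
  · exact chkRange_spec ONa.px lb 3 WL 14336 512 c_w_28 j (by omega) (by omega)
  exact chkRange_spec ONa.px lb 3 WL 14848 512 c_w_29 j (by omega) (by omega)

end Cfsg.Agent.Lib.Helper4.ONM
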