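import Cfsg.Agent.Lib.Helper4.ONM.Walk
import Cfsg.Agent.Lib.Helper4.ONM.Words
import Cfsg.Agent.Lib.Helper4.ONM.LB
import Cfsg.Agent.Lib.Helper6.TCD.ONa.Par
set_option autoImplicit false
set_option maxRecDepth 1000000
set_option Elab.async false
namespace Cfsg.Agent.Lib.Helper4.ONM
open Cfsg.Agent.Lib.Helper6.TCD Cfsg.Agent.Lib.Helper6.TC
theorem c_w_30 : chkRange ONa.px lb 3 WL 15360 512 = true := by decide +kernel
theorem c_w_31 : chkRange ONa.px lb 3 WL 15872 512 = true := by decide +kernel
theorem c_w_32 : chkRange ONa.px lb 3 WL 16384 512 = true := by decide +kernel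
theorem c_w_33 : chkRange ONa.px lb 3 WL 16896 512 = true := by decide +kernel
theorem c_w_34 : chkRange ONa.px lb 3 WL 17408 512 = true := by decide +kernel
theorem c_w_35 : chkRange ONa.px lb 3 WL 17920 512 = true := by decide +kernel
theorem c_w_36 : chkRange ONa.px lb 3 WL 18432 512 = true := by decide +kernel
theorem c_w_37 : chkRange ONa.px lb 3 WL 18944 512 = true := by decide +kernel
theorem c_w_38 : chkRange ONa.px lb 3 WL 19456 512 = true := by decide +kernel
theorem c_w_39 : chkRange ONa.px lb 3 WL 19968 512 = true := by decide +kernel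
theorem c_w_40 : chkRange ONa.px lb 3 WL 20480 512 = true := by decide +kernel
theorem c_w_41 : chkRange ONa.px lb 3 WL 20992 512 = true := by decide +kernel
theorem c_w_42 : chkRange ONa.px lb 3 WL 21504 512 = true := by decide +kernel
theorem c_w_43 : chkRange ONa.px lb 3 WL 22016 512 = true := by decide +kernel
theorem c_w_44 : chkRange ONa.px lb 3 WL 22528 512 = true := by decide +kernel
theorem c_w_45 : chkRange ONa.px lb 3 WL 23040 512 = true := by decide +kernel
theorem c_w_46 : chkRange ONa.px lb 3 WL 23552 512 = true := by decide +kernel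
theorem c_w_47 : chkRange ONa.px lb 3 WL 24064 512 = true := by decide +kernel
theorem c_w_48 : chkRange ONa.px lb 3 WL 24576 512 = true := by decide +kernel
theorem c_w_49 : chkRange ONa.px lb 3 WL 25088 512 = true := by decide +kernel
theorem c_w_50 : chkRange ONa.px lb 3 WL 25600 512 = true := by decide +kernel
theorem c_w_51 : chkRange ONa.px lb 3 WL 26112 512 = true := by decide +kernel
theorem c_w_52 : chkRange ONa.px lb 3 WL 26624 512 = true := by decide +kernel
theorem c_w_53 : chkRange ONa.px lb 3 WL 27136 512 = true := by decide +kernel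
theorem c_w_54 : chkRange ONa.px lb 3 WL 27648 512 = true := by decide +kernel
theorem c_w_55 : chkRange ONa.px lb 3 WL 28160 512 = true := by decide +kernel
theorem c_w_56 : chkRange ONa.px lb 3 WL 28672 512 = true := by decide +kernel
theorem c_w_57 : chkRange ONa.px lb 3 WL 29184 512 = true := by decide +kernel
theorem c_w_58 : chkRange ONa.px lb 3 WL 29696 512 = true := by decide +kernel
theorem c_w_59 : chkRange ONa.px lb 3 WL 30208 512 = true := by decide +kernel

/-- the walks of the relators on the points from 15360 to 30720 -/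
theorem walk_ok_1 (j : ℕ) (h1 : 15360 ≤ j) (h2 : j < 30720) :
    ∀ we ∈ WL, wapp ONa.px we.1 j = j ∧ (lsum ONa.px lb we.1 j) % 3 = we.2 := by
  rcases Nat.lt_or_ge j 15872 with g30 | g30
  · exact chkRange_spec ONa.px lb 3 WL 15360 512 c_w_30 j (by omega) (by omega)
  rcases Nat.lt_or_ge j 16384 with g31 | g31
  · exact chkRange_spec ONa.px lb 3 WL 15872 512 c_w_31 j (by omega) (by omega)
  rcases Nat.lt_or_ge j 16896 with g32 | g32
  · exact chkRange_spec ONa.px lb 3 WL 16384 512 c_w_32 j (by omega) (by omega)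
  rcases Nat.lt_or_ge j 17408 with g33 | g33
  · exact chkRange_spec ONa.px lb 3 WL 16896 512 c_w_33 j (by omega) (by omega)
  rcases Nat.lt_or_ge j 17920 with g34 | g34
  · exact chkRange_spec ONa.px lb 3 WL 17408 512 c_w_34 j (by omega) (by omega)
  rcases Nat.lt_or_ge j 18432 with g35 | g35
  · exact chkRange_spec ONa.px lb 3 WL 17920 512 c_w_35 j (by omega) (by omega)
  rcases Nat.lt_or_ge j 18944 with g36 | g36
  · exact chkRange_spec ONa.px lb 3 WL 18432 512 c_w_36 j (by omega) (by omega)
  rcases Nat.lt_or_ge j 19456 with g37 | g37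
  · exact chkRange_spec ONa.px lb 3 WL 18944 512 c_w_37 j (by omega) (by omega)
  rcases Nat.lt_or_ge j 19968 with g38 | g38
  · exact chkRange_spec ONa.px lb 3 WL 19456 512 c_w_38 j (by omega) (by omega)
  rcases Nat.lt_or_ge j 20480 with g39 | g39
  · exact chkRange_spec ONa.px lb 3 WL 19968 512 c_w_39 j (by omega) (by omega)
  rcases Nat.lt_or_ge j 20992 with g40 | g40
  · exact chkRange_spec ONa.px lb 3 WL 20480 512 c_w_40 j (by omega) (by omega)
  rcases Nat.lt_or_ge j 21504 with g41 | g41
  · exact chkRange_spec ONa.px lb 3 WL 20992 512 c_w_41 j (by omega) (by omega)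
  rcases Nat.lt_or_ge j 22016 with g42 | g42
  · exact chkRange_spec ONa.px lb 3 WL 21504 512 c_w_42 j (by omega) (by omega)
  rcases Nat.lt_or_ge j 22528 with g43 | g43
  · exact chkRange_spec ONa.px lb 3 WL 22016 512 c_w_43 j (by omega) (by omega)
  rcases Nat.lt_or_ge j 23040 with g44 | g44
  · exact chkRange_spec ONa.px lb 3 WL 22528 512 c_w_44 j (by omega) (by omega)
  rcases Nat.lt_or_ge j 23552 with g45 | g45
  · exact chkRange_spec ONa.px lb 3 WL 23040 512 c_w_45 j (by omega) (by omega)
  rcases Nat.lt_or_ge j 24064 with g46 | g46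
  · exact chkRange_spec ONa.px lb 3 WL 23552 512 c_w_46 j (by omega) (by omega)
  rcases Nat.lt_or_ge j 24576 with g47 | g47
  · exact chkRange_spec ONa.px lb 3 WL 24064 512 c_w_47 j (by omega) (by omega)
  rcases Nat.lt_or_ge j 25088 with g48 | g48
  · exact chkRange_spec ONa.px lb 3 WL 24576 512 c_w_48 j (by omega) (by omega)
  rcases Nat.lt_or_ge j 25600 with g49 | g49
  · exact chkRange_spec ONa.px lb 3 WL 25088 512 c_w_49 j (by omega) (by omega)
  rcases Nat.lt_or_ge j 26112 with g50 | g50
  · exact chkRange_spec ONa.px lb 3 WL 25600 512 c_w_50 j (by omega) (by omega)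
  rcases Nat.lt_or_ge j 26624 with g51 | g51
  · exact chkRange_spec ONa.px lb 3 WL 26112 512 c_w_51 j (by omega) (by omega)
  rcases Nat.lt_or_ge j 27136 with g52 | g52
  · exact chkRange_spec ONa.px lb 3 WL 26624 512 c_w_52 j (by omega) (by omega)
  rcases Nat.lt_or_ge j 27648 with g53 | g53
  · exact chkRange_spec ONa.px lb 3 WL 27136 512 c_w_53 j (by omega) (by omega)
  rcases Nat.lt_or_ge j 28160 with g54 | g54
  · exact chkRange_spec ONa.px lb 3 WL 27648 512 c_w_54 j (by omega) (by omega)
  rcases Nat.lt_or_ge j 28672 with g55 | g55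
  · exact chkRange_spec ONa.px lb 3 WL 28160 512 c_w_55 j (by omega) (by omega)
  rcases Nat.lt_or_ge j 29184 with g56 | g56
  · exact chkRange_spec ONa.px lb 3 WL 28672 512 c_w_56 j (by omega) (by omega)
  rcases Nat.lt_or_ge j 29696 with g57 | g57
  · exact chkRange_spec ONa.px lb 3 WL 29184 512 c_w_57 j (by omega) (by omega)
  rcases Nat.lt_or_ge j 30208 with g58 | g58
  · exact chkRange_spec ONa.px lb 3 WL 29696 512 c_w_58 j (by omega) (by omega)
  exact chkRange_spec ONa.px lb 3 WL 30208 512 c_w_59 j (by omega) (by omega)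

end Cfsg.Agent.Lib.Helper4.ONM
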