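import Cfsg.Agent.Lib.Helper4.ONM.Walk
import Cfsg.Agent.Lib.Helper4.ONM.Words
import Cfsg.Agent.Lib.Helper4.ONM.LB
import Cfsg.Agent.Lib.Helper6.TCD.ONa.Par
set_option autoImplicit false
set_option maxRecDepth 1000000
set_option Elab.async false
namespace Cfsg.Agent.Lib.Helper4.ONM
open Cfsg.Agent.Lib.Helper6.TCD Cfsg.Agent.Lib.Helper6.TC
theorem c_w_60 : chkRange ONa.px lb 3 WL 30720 512 = true := by decide +kernel
theorem c_w_61 : chkRange ONa.px lb 3 WL 31232 512 = true := by decide +kernel
theorem c_w_62 : chkRange ONa.px lb 3 WL 31744 512 = true := by decide +kernel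
theorem c_w_63 : chkRange ONa.px lb 3 WL 32256 512 = true := by decide +kernel
theorem c_w_64 : chkRange ONa.px lb 3 WL 32768 512 = true := by decide +kernel
theorem c_w_65 : chkRange ONa.px lb 3 WL 33280 512 = true := by decide +kernel
theorem c_w_66 : chkRange ONa.px lb 3 WL 33792 512 = true := by decide +kernel
theorem c_w_67 : chkRange ONa.px lb 3 WL 34304 512 = true := by decide +kernel
theorem c_w_68 : chkRange ONa.px lb 3 WL 34816 512 = true := by decide +kernel
theorem c_w_69 : chkRange ONa.px lb 3 WL 35328 512 = true := by decide +kernel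
theorem c_w_70 : chkRange ONa.px lb 3 WL 35840 512 = true := by decide +kernel
theorem c_w_71 : chkRange ONa.px lb 3 WL 36352 512 = true := by decide +kernel
theorem c_w_72 : chkRange ONa.px lb 3 WL 36864 512 = true := by decide +kernel
theorem c_w_73 : chkRange ONa.px lb 3 WL 37376 512 = true := by decide +kernel
theorem c_w_74 : chkRange ONa.px lb 3 WL 37888 512 = true := by decide +kernel
theorem c_w_75 : chkRange ONa.px lb 3 WL 38400 512 = true := by decide +kernel
theorem c_w_76 : chkRange ONa.px lb 3 WL 38912 512 = true := by decide +kernel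
theorem c_w_77 : chkRange ONa.px lb 3 WL 39424 512 = true := by decide +kernel
theorem c_w_78 : chkRange ONa.px lb 3 WL 39936 512 = true := by decide +kernel
theorem c_w_79 : chkRange ONa.px lb 3 WL 40448 512 = true := by decide +kernel
theorem c_w_80 : chkRange ONa.px lb 3 WL 40960 512 = true := by decide +kernel
theorem c_w_81 : chkRange ONa.px lb 3 WL 41472 512 = true := by decide +kernel
theorem c_w_82 : chkRange ONa.px lb 3 WL 41984 512 = true := by decide +kernel
theorem c_w_83 : chkRange ONa.px lb 3 WL 42496 512 = true := by decide +kernel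
theorem c_w_84 : chkRange ONa.px lb 3 WL 43008 512 = true := by decide +kernel
theorem c_w_85 : chkRange ONa.px lb 3 WL 43520 512 = true := by decide +kernel
theorem c_w_86 : chkRange ONa.px lb 3 WL 44032 512 = true := by decide +kernel
theorem c_w_87 : chkRange ONa.px lb 3 WL 44544 512 = true := by decide +kernel
theorem c_w_88 : chkRange ONa.px lb 3 WL 45056 512 = true := by decide +kernel
theorem c_w_89 : chkRange ONa.px lb 3 WL 45568 512 = true := by decide +kernel

/-- the walks of the relators on the points from 30720 to 46080 -/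
theorem walk_ok_2 (j : ℕ) (h1 : 30720 ≤ j) (h2 : j < 46080) :
    ∀ we ∈ WL, wapp ONa.px we.1 j = j ∧ (lsum ONa.px lb we.1 j) % 3 = we.2 := by
  rcases Nat.lt_or_ge j 31232 with g60 | g60
  · exact chkRange_spec ONa.px lb 3 WL 30720 512 c_w_60 j (by omega) (by omega)
  rcases Nat.lt_or_ge j 31744 with g61 | g61
  · exact chkRange_spec ONa.px lb 3 WL 31232 512 c_w_61 j (by omega) (by omega)
  rcases Nat.lt_or_ge j 32256 with g62 | g62
  · exact chkRange_spec ONa.px lb 3 WL 31744 512 c_w_62 j (by omega) (by omega)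
  rcases Nat.lt_or_ge j 32768 with g63 | g63
  · exact chkRange_spec ONa.px lb 3 WL 32256 512 c_w_63 j (by omega) (by omega)
  rcases Nat.lt_or_ge j 33280 with g64 | g64
  · exact chkRange_spec ONa.px lb 3 WL 32768 512 c_w_64 j (by omega) (by omega)
  rcases Nat.lt_or_ge j 33792 with g65 | g65
  · exact chkRange_spec ONa.px lb 3 WL 33280 512 c_w_65 j (by omega) (by omega)
  rcases Nat.lt_or_ge j 34304 with g66 | g66
  · exact chkRange_spec ONa.px lb 3 WL 33792 512 c_w_66 j (by omega) (by omega)
  rcases Nat.lt_or_ge j 34816 with g67 | g67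
  · exact chkRange_spec ONa.px lb 3 WL 34304 512 c_w_67 j (by omega) (by omega)
  rcases Nat.lt_or_ge j 35328 with g68 | g68
  · exact chkRange_spec ONa.px lb 3 WL 34816 512 c_w_68 j (by omega) (by omega)
  rcases Nat.lt_or_ge j 35840 with g69 | g69
  · exact chkRange_spec ONa.px lb 3 WL 35328 512 c_w_69 j (by omega) (by omega)
  rcases Nat.lt_or_ge j 36352 with g70 | g70
  · exact chkRange_spec ONa.px lb 3 WL 35840 512 c_w_70 j (by omega) (by omega)
  rcases Nat.lt_or_ge j 36864 with g71 | g71
  · exact chkRange_spec ONa.px lb 3 WL 36352 512 c_w_71 j (by omega) (by omega)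
  rcases Nat.lt_or_ge j 37376 with g72 | g72
  · exact chkRange_spec ONa.px lb 3 WL 36864 512 c_w_72 j (by omega) (by omega)
  rcases Nat.lt_or_ge j 37888 with g73 | g73
  · exact chkRange_spec ONa.px lb 3 WL 37376 512 c_w_73 j (by omega) (by omega)
  rcases Nat.lt_or_ge j 38400 with g74 | g74
  · exact chkRange_spec ONa.px lb 3 WL 37888 512 c_w_74 j (by omega) (by omega)
  rcases Nat.lt_or_ge j 38912 with g75 | g75
  · exact chkRange_spec ONa.px lb 3 WL 38400 512 c_w_75 j (by omega) (by omega)
  rcases Nat.lt_or_ge j 39424 with g76 | g76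
  · exact chkRange_spec ONa.px lb 3 WL 38912 512 c_w_76 j (by omega) (by omega)
  rcases Nat.lt_or_ge j 39936 with g77 | g77
  · exact chkRange_spec ONa.px lb 3 WL 39424 512 c_w_77 j (by omega) (by omega)
  rcases Nat.lt_or_ge j 40448 with g78 | g78
  · exact chkRange_spec ONa.px lb 3 WL 39936 512 c_w_78 j (by omega) (by omega)
  rcases Nat.lt_or_ge j 40960 with g79 | g79
  · exact chkRange_spec ONa.px lb 3 WL 40448 512 c_w_79 j (by omega) (by omega)
  rcases Nat.lt_or_ge j 41472 with g80 | g80
  · exact chkRange_spec ONa.px lb 3 WL 40960 512 c_w_80 j (by omega) (by omega)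
  rcases Nat.lt_or_ge j 41984 with g81 | g81
  · exact chkRange_spec ONa.px lb 3 WL 41472 512 c_w_81 j (by omega) (by omega)
  rcases Nat.lt_or_ge j 42496 with g82 | g82
  · exact chkRange_spec ONa.px lb 3 WL 41984 512 c_w_82 j (by omega) (by omega)
  rcases Nat.lt_or_ge j 43008 with g83 | g83
  · exact chkRange_spec ONa.px lb 3 WL 42496 512 c_w_83 j (by omega) (by omega)
  rcases Nat.lt_or_ge j 43520 with g84 | g84
  · exact chkRange_spec ONa.px lb 3 WL 43008 512 c_w_84 j (by omega) (by omega)
  rcases Nat.lt_or_ge j 44032 with g85 | g85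
  · exact chkRange_spec ONa.px lb 3 WL 43520 512 c_w_85 j (by omega) (by omega)
  rcases Nat.lt_or_ge j 44544 with g86 | g86
  · exact chkRange_spec ONa.px lb 3 WL 44032 512 c_w_86 j (by omega) (by omega)
  rcases Nat.lt_or_ge j 45056 with g87 | g87
  · exact chkRange_spec ONa.px lb 3 WL 44544 512 c_w_87 j (by omega) (by omega)
  rcases Nat.lt_or_ge j 45568 with g88 | g88
  · exact chkRange_spec ONa.px lb 3 WL 45056 512 c_w_88 j (by omega) (by omega)
  exact chkRange_spec ONa.px lb 3 WL 45568 512 c_w_89 j (by omega) (by omega)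

end Cfsg.Agent.Lib.Helper4.ONM
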