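import Cfsg.Agent.Lib.Helper4.ONM.Walk
import Cfsg.Agent.Lib.Helper4.ONM.Words
import Cfsg.Agent.Lib.Helper4.ONM.LB
import Cfsg.Agent.Lib.Helper6.TCD.ONa.Par
set_option autoImplicit false
set_option maxRecDepth 1000000
set_option Elab.async false
namespace Cfsg.Agent.Lib.Helper4.ONM
open Cfsg.Agent.Lib.Helper6.TCD Cfsg.Agent.Lib.Helper6.TC
theorem c_w_90 : chkRange ONa.px lb 3 WL 46080 512 = true := by decide +kernel
theorem c_w_91 : chkRange ONa.px lb 3 WL 46592 512 = true := by decide +kernel
theorem c_w_92 : chkRange ONa.px lb 3 WL 47104 512 = true := by decide +kernel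
theorem c_w_93 : chkRange ONa.px lb 3 WL 47616 512 = true := by decide +kernel
theorem c_w_94 : chkRange ONa.px lb 3 WL 48128 512 = true := by decide +kernel
theorem c_w_95 : chkRange ONa.px lb 3 WL 48640 512 = true := by decide +kernel
theorem c_w_96 : chkRange ONa.px lb 3 WL 49152 512 = true := by decide +kernel
theorem c_w_97 : chkRange ONa.px lb 3 WL 49664 512 = true := by decide +kernel
theorem c_w_98 : chkRange ONa.px lb 3 WL 50176 512 = true := by decide +kernel
theorem c_w_99 : chkRange ONa.px lb 3 WL 50688 512 = true := by decide +kernel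
theorem c_w_100 : chkRange ONa.px lb 3 WL 51200 512 = true := by decide +kernel
theorem c_w_101 : chkRange ONa.px lb 3 WL 51712 512 = true := by decide +kernel
theorem c_w_102 : chkRange ONa.px lb 3 WL 52224 512 = true := by decide +kernel
theorem c_w_103 : chkRange ONa.px lb 3 WL 52736 512 = true := by decide +kernel
theorem c_w_104 : chkRange ONa.px lb 3 WL 53248 512 = true := by decide +kernel
theorem c_w_105 : chkRange ONa.px lb 3 WL 53760 512 = true := by decide +kernel
theorem c_w_106 : chkRange ONa.px lb 3 WL 54272 512 = true := by decide +kernel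
theorem c_w_107 : chkRange ONa.px lb 3 WL 54784 512 = true := by decide +kernel
theorem c_w_108 : chkRange ONa.px lb 3 WL 55296 512 = true := by decide +kernel
theorem c_w_109 : chkRange ONa.px lb 3 WL 55808 512 = true := by decide +kernel
theorem c_w_110 : chkRange ONa.px lb 3 WL 56320 512 = true := by decide +kernel
theorem c_w_111 : chkRange ONa.px lb 3 WL 56832 512 = true := by decide +kernel
theorem c_w_112 : chkRange ONa.px lb 3 WL 57344 512 = true := by decide +kernel
theorem c_w_113 : chkRange ONa.px lb 3 WL 57856 512 = true := by decide +kernel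
theorem c_w_114 : chkRange ONa.px lb 3 WL 58368 512 = true := by decide +kernel
theorem c_w_115 : chkRange ONa.px lb 3 WL 58880 512 = true := by decide +kernel
theorem c_w_116 : chkRange ONa.px lb 3 WL 59392 512 = true := by decide +kernel
theorem c_w_117 : chkRange ONa.px lb 3 WL 59904 512 = true := by decide +kernel
theorem c_w_118 : chkRange ONa.px lb 3 WL 60416 512 = true := by decide +kernel
theorem c_w_119 : chkRange ONa.px lb 3 WL 60928 512 = true := by decide +kernel

/-- the walks of the relators on the points from 46080 to 61440 -/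
theorem walk_ok_3 (j : ℕ) (h1 : 46080 ≤ j) (h2 : j < 61440) :
    ∀ we ∈ WL, wapp ONa.px we.1 j = j ∧ (lsum ONa.px lb we.1 j) % 3 = we.2 := by
  rcases Nat.lt_or_ge j 46592 with g90 | g90
  · exact chkRange_spec ONa.px lb 3 WL 46080 512 c_w_90 j (by omega) (by omega)
  rcases Nat.lt_or_ge j 47104 with g91 | g91
  · exact chkRange_spec ONa.px lb 3 WL 46592 512 c_w_91 j (by omega) (by omega)
  rcases Nat.lt_or_ge j 47616 with g92 | g92
  · exact chkRange_spec ONa.px lb 3 WL 47104 512 c_w_92 j (by omega) (by omega)
  rcases Nat.lt_or_ge j 48128 with g93 | g93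
  · exact chkRange_spec ONa.px lb 3 WL 47616 512 c_w_93 j (by omega) (by omega)
  rcases Nat.lt_or_ge j 48640 with g94 | g94
  · exact chkRange_spec ONa.px lb 3 WL 48128 512 c_w_94 j (by omega) (by omega)
  rcases Nat.lt_or_ge j 49152 with g95 | g95
  · exact chkRange_spec ONa.px lb 3 WL 48640 512 c_w_95 j (by omega) (by omega)
  rcases Nat.lt_or_ge j 49664 with g96 | g96
  · exact chkRange_spec ONa.px lb 3 WL 49152 512 c_w_96 j (by omega) (by omega)
  rcases Nat.lt_or_ge j 50176 with g97 | g97
  · exact chkRange_spec ONa.px lb 3 WL 49664 512 c_w_97 j (by omega) (by omega)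
  rcases Nat.lt_or_ge j 50688 with g98 | g98
  · exact chkRange_spec ONa.px lb 3 WL 50176 512 c_w_98 j (by omega) (by omega)
  rcases Nat.lt_or_ge j 51200 with g99 | g99
  · exact chkRange_spec ONa.px lb 3 WL 50688 512 c_w_99 j (by omega) (by omega)
  rcases Nat.lt_or_ge j 51712 with g100 | g100
  · exact chkRange_spec ONa.px lb 3 WL 51200 512 c_w_100 j (by omega) (by omega)
  rcases Nat.lt_or_ge j 52224 with g101 | g101
  · exact chkRange_spec ONa.px lb 3 WL 51712 512 c_w_101 j (by omega) (by omega)
  rcases Nat.lt_or_ge j 52736 with g102 | g102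
  · exact chkRange_spec ONa.px lb 3 WL 52224 512 c_w_102 j (by omega) (by omega)
  rcases Nat.lt_or_ge j 53248 with g103 | g103
  · exact chkRange_spec ONa.px lb 3 WL 52736 512 c_w_103 j (by omega) (by omega)
  rcases Nat.lt_or_ge j 53760 with g104 | g104
  · exact chkRange_spec ONa.px lb 3 WL 53248 512 c_w_104 j (by omega) (by omega)
  rcases Nat.lt_or_ge j 54272 with g105 | g105
  · exact chkRange_spec ONa.px lb 3 WL 53760 512 c_w_105 j (by omega) (by omega)
  rcases Nat.lt_or_ge j 54784 with g106 | g106
  · exact chkRange_spec ONa.px lb 3 WL 54272 512 c_w_106 j (by omega) (by omega)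
  rcases Nat.lt_or_ge j 55296 with g107 | g107
  · exact chkRange_spec ONa.px lb 3 WL 54784 512 c_w_107 j (by omega) (by omega)
  rcases Nat.lt_or_ge j 55808 with g108 | g108
  · exact chkRange_spec ONa.px lb 3 WL 55296 512 c_w_108 j (by omega) (by omega)
  rcases Nat.lt_or_ge j 56320 with g109 | g109
  · exact chkRange_spec ONa.px lb 3 WL 55808 512 c_w_109 j (by omega) (by omega)
  rcases Nat.lt_or_ge j 56832 with g110 | g110
  · exact chkRange_spec ONa.px lb 3 WL 56320 512 c_w_110 j (by omega) (by omega)
  rcases Nat.lt_or_ge j 57344 with g111 | g111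
  · exact chkRange_spec ONa.px lb 3 WL 56832 512 c_w_111 j (by omega) (by omega)
  rcases Nat.lt_or_ge j 57856 with g112 | g112
  · exact chkRange_spec ONa.px lb 3 WL 57344 512 c_w_112 j (by omega) (by omega)
  rcases Nat.lt_or_ge j 58368 with g113 | g113
  · exact chkRange_spec ONa.px lb 3 WL 57856 512 c_w_113 j (by omega) (by omega)
  rcases Nat.lt_or_ge j 58880 with g114 | g114
  · exact chkRange_spec ONa.px lb 3 WL 58368 512 c_w_114 j (by omega) (by omega)
  rcases Nat.lt_or_ge j 59392 with g115 | g115
  · exact chkRange_spec ONa.px lb 3 WL 58880 512 c_w_115 j (by omega) (by omega)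
  rcases Nat.lt_or_ge j 59904 with g116 | g116
  · exact chkRange_spec ONa.px lb 3 WL 59392 512 c_w_116 j (by omega) (by omega)
  rcases Nat.lt_or_ge j 60416 with g117 | g117
  · exact chkRange_spec ONa.px lb 3 WL 59904 512 c_w_117 j (by omega) (by omega)
  rcases Nat.lt_or_ge j 60928 with g118 | g118
  · exact chkRange_spec ONa.px lb 3 WL 60416 512 c_w_118 j (by omega) (by omega)
  exact chkRange_spec ONa.px lb 3 WL 60928 512 c_w_119 j (by omega) (by omega)

end Cfsg.Agent.Lib.Helper4.ONM
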