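import Cfsg.Agent.Lib.Helper4.ONM.Walk
import Cfsg.Agent.Lib.Helper4.ONM.Words
import Cfsg.Agent.Lib.Helper4.ONM.LB
import Cfsg.Agent.Lib.Helper6.TCD.ONa.Par
set_option autoImplicit false
set_option maxRecDepth 1000000
set_option Elab.async false
namespace Cfsg.Agent.Lib.Helper4.ONM
open Cfsg.Agent.Lib.Helper6.TCD Cfsg.Agent.Lib.Helper6.TC
theorem c_w_120 : chkRange ONa.px lb 3 WL 61440 512 = true := by decide +kernel
theorem c_w_121 : chkRange ONa.px lb 3 WL 61952 512 = true := by decide +kernel
theorem c_w_122 : chkRange ONa.px lb 3 WL 62464 512 = true := by decide +kernel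
theorem c_w_123 : chkRange ONa.px lb 3 WL 62976 512 = true := by decide +kernel
theorem c_w_124 : chkRange ONa.px lb 3 WL 63488 512 = true := by decide +kernel
theorem c_w_125 : chkRange ONa.px lb 3 WL 64000 512 = true := by decide +kernel
theorem c_w_126 : chkRange ONa.px lb 3 WL 64512 512 = true := by decide +kernel
theorem c_w_127 : chkRange ONa.px lb 3 WL 65024 512 = true := by decide +kernel
theorem c_w_128 : chkRange ONa.px lb 3 WL 65536 512 = true := by decide +kernel
theorem c_w_129 : chkRange ONa.px lb 3 WL 66048 512 = true := by decide +kernel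
theorem c_w_130 : chkRange ONa.px lb 3 WL 66560 512 = true := by decide +kernel
theorem c_w_131 : chkRange ONa.px lb 3 WL 67072 512 = true := by decide +kernel
theorem c_w_132 : chkRange ONa.px lb 3 WL 67584 512 = true := by decide +kernel
theorem c_w_133 : chkRange ONa.px lb 3 WL 68096 512 = true := by decide +kernel
theorem c_w_134 : chkRange ONa.px lb 3 WL 68608 512 = true := by decide +kernel
theorem c_w_135 : chkRange ONa.px lb 3 WL 69120 512 = true := by decide +kernel
theorem c_w_136 : chkRange ONa.px lb 3 WL 69632 512 = true := by decide +kernel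
theorem c_w_137 : chkRange ONa.px lb 3 WL 70144 512 = true := by decide +kernel
theorem c_w_138 : chkRange ONa.px lb 3 WL 70656 512 = true := by decide +kernel
theorem c_w_139 : chkRange ONa.px lb 3 WL 71168 512 = true := by decide +kernel
theorem c_w_140 : chkRange ONa.px lb 3 WL 71680 512 = true := by decide +kernel
theorem c_w_141 : chkRange ONa.px lb 3 WL 72192 512 = true := by decide +kernel
theorem c_w_142 : chkRange ONa.px lb 3 WL 72704 512 = true := by decide +kernel
theorem c_w_143 : chkRange ONa.px lb 3 WL 73216 512 = true := by decide +kernel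
theorem c_w_144 : chkRange ONa.px lb 3 WL 73728 512 = true := by decide +kernel
theorem c_w_145 : chkRange ONa.px lb 3 WL 74240 512 = true := by decide +kernel
theorem c_w_146 : chkRange ONa.px lb 3 WL 74752 512 = true := by decide +kernel
theorem c_w_147 : chkRange ONa.px lb 3 WL 75264 512 = true := by decide +kernel
theorem c_w_148 : chkRange ONa.px lb 3 WL 75776 512 = true := by decide +kernel
theorem c_w_149 : chkRange ONa.px lb 3 WL 76288 512 = true := by decide +kernel

/-- the walks of the relators on the points from 61440 to 76800 -/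
theorem walk_ok_4 (j : ℕ) (h1 : 61440 ≤ j) (h2 : j < 76800) :
    ∀ we ∈ WL, wapp ONa.px we.1 j = j ∧ (lsum ONa.px lb we.1 j) % 3 = we.2 := by
  rcases Nat.lt_or_ge j 61952 with g120 | g120
  · exact chkRange_spec ONa.px lb 3 WL 61440 512 c_w_120 j (by omega) (by omega)
  rcases Nat.lt_or_ge j 62464 with g121 | g121
  · exact chkRange_spec ONa.px lb 3 WL 61952 512 c_w_121 j (by omega) (by omega)
  rcases Nat.lt_or_ge j 62976 with g122 | g122
  · exact chkRange_spec ONa.px lb 3 WL 62464 512 c_w_122 j (by omega) (by omega)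
  rcases Nat.lt_or_ge j 63488 with g123 | g123
  · exact chkRange_spec ONa.px lb 3 WL 62976 512 c_w_123 j (by omega) (by omega)
  rcases Nat.lt_or_ge j 64000 with g124 | g124
  · exact chkRange_spec ONa.px lb 3 WL 63488 512 c_w_124 j (by omega) (by omega)
  rcases Nat.lt_or_ge j 64512 with g125 | g125
  · exact chkRange_spec ONa.px lb 3 WL 64000 512 c_w_125 j (by omega) (by omega)
  rcases Nat.lt_or_ge j 65024 with g126 | g126
  · exact chkRange_spec ONa.px lb 3 WL 64512 512 c_w_126 j (by omega) (by omega)
  rcases Nat.lt_or_ge j 65536 with g127 | g127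
  · exact chkRange_spec ONa.px lb 3 WL 65024 512 c_w_127 j (by omega) (by omega)
  rcases Nat.lt_or_ge j 66048 with g128 | g128
  · exact chkRange_spec ONa.px lb 3 WL 65536 512 c_w_128 j (by omega) (by omega)
  rcases Nat.lt_or_ge j 66560 with g129 | g129
  · exact chkRange_spec ONa.px lb 3 WL 66048 512 c_w_129 j (by omega) (by omega)
  rcases Nat.lt_or_ge j 67072 with g130 | g130
  · exact chkRange_spec ONa.px lb 3 WL 66560 512 c_w_130 j (by omega) (by omega)
  rcases Nat.lt_or_ge j 67584 with g131 | g131
  · exact chkRange_spec ONa.px lb 3 WL 67072 512 c_w_131 j (by omega) (by omega)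
  rcases Nat.lt_or_ge j 68096 with g132 | g132
  · exact chkRange_spec ONa.px lb 3 WL 67584 512 c_w_132 j (by omega) (by omega)
  rcases Nat.lt_or_ge j 68608 with g133 | g133
  · exact chkRange_spec ONa.px lb 3 WL 68096 512 c_w_133 j (by omega) (by omega)
  rcases Nat.lt_or_ge j 69120 with g134 | g134
  · exact chkRange_spec ONa.px lb 3 WL 68608 512 c_w_134 j (by omega) (by omega)
  rcases Nat.lt_or_ge j 69632 with g135 | g135
  · exact chkRange_spec ONa.px lb 3 WL 69120 512 c_w_135 j (by omega) (by omega)
  rcases Nat.lt_or_ge j 70144 with g136 | g136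
  · exact chkRange_spec ONa.px lb 3 WL 69632 512 c_w_136 j (by omega) (by omega)
  rcases Nat.lt_or_ge j 70656 with g137 | g137
  · exact chkRange_spec ONa.px lb 3 WL 70144 512 c_w_137 j (by omega) (by omega)
  rcases Nat.lt_or_ge j 71168 with g138 | g138
  · exact chkRange_spec ONa.px lb 3 WL 70656 512 c_w_138 j (by omega) (by omega)
  rcases Nat.lt_or_ge j 71680 with g139 | g139
  · exact chkRange_spec ONa.px lb 3 WL 71168 512 c_w_139 j (by omega) (by omega)
  rcases Nat.lt_or_ge j 72192 with g140 | g140
  · exact chkRange_spec ONa.px lb 3 WL 71680 512 c_w_140 j (by omega) (by omega)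
  rcases Nat.lt_or_ge j 72704 with g141 | g141
  · exact chkRange_spec ONa.px lb 3 WL 72192 512 c_w_141 j (by omega) (by omega)
  rcases Nat.lt_or_ge j 73216 with g142 | g142
  · exact chkRange_spec ONa.px lb 3 WL 72704 512 c_w_142 j (by omega) (by omega)
  rcases Nat.lt_or_ge j 73728 with g143 | g143
  · exact chkRange_spec ONa.px lb 3 WL 73216 512 c_w_143 j (by omega) (by omega)
  rcases Nat.lt_or_ge j 74240 with g144 | g144
  · exact chkRange_spec ONa.px lb 3 WL 73728 512 c_w_144 j (by omega) (by omega)
  rcases Nat.lt_or_ge j 74752 with g145 | g145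
  · exact chkRange_spec ONa.px lb 3 WL 74240 512 c_w_145 j (by omega) (by omega)
  rcases Nat.lt_or_ge j 75264 with g146 | g146
  · exact chkRange_spec ONa.px lb 3 WL 74752 512 c_w_146 j (by omega) (by omega)
  rcases Nat.lt_or_ge j 75776 with g147 | g147
  · exact chkRange_spec ONa.px lb 3 WL 75264 512 c_w_147 j (by omega) (by omega)
  rcases Nat.lt_or_ge j 76288 with g148 | g148
  · exact chkRange_spec ONa.px lb 3 WL 75776 512 c_w_148 j (by omega) (by omega)
  exact chkRange_spec ONa.px lb 3 WL 76288 512 c_w_149 j (by omega) (by omega)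

end Cfsg.Agent.Lib.Helper4.ONM
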