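import Cfsg.Agent.Lib.Helper4.ONM.Walk
import Cfsg.Agent.Lib.Helper4.ONM.Words
import Cfsg.Agent.Lib.Helper4.ONM.LB
import Cfsg.Agent.Lib.Helper6.TCD.ONa.Par
set_option autoImplicit false
set_option maxRecDepth 1000000
set_option Elab.async false
namespace Cfsg.Agent.Lib.Helper4.ONM
open Cfsg.Agent.Lib.Helper6.TCD Cfsg.Agent.Lib.Helper6.TC
theorem c_w_150 : chkRange ONa.px lb 3 WL 76800 512 = true := by decide +kernel
theorem c_w_151 : chkRange ONa.px lb 3 WL 77312 512 = true := by decide +kernel
theorem c_w_152 : chkRange ONa.px lb 3 WL 77824 512 = true := by decide +kernel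
theorem c_w_153 : chkRange ONa.px lb 3 WL 78336 512 = true := by decide +kernel
theorem c_w_154 : chkRange ONa.px lb 3 WL 78848 512 = true := by decide +kernel
theorem c_w_155 : chkRange ONa.px lb 3 WL 79360 512 = true := by decide +kernel
theorem c_w_156 : chkRange ONa.px lb 3 WL 79872 512 = true := by decide +kernel
theorem c_w_157 : chkRange ONa.px lb 3 WL 80384 512 = true := by decide +kernel
theorem c_w_158 : chkRange ONa.px lb 3 WL 80896 512 = true := by decide +kernel
theorem c_w_159 : chkRange ONa.px lb 3 WL 81408 512 = true := by decide +kernel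
theorem c_w_160 : chkRange ONa.px lb 3 WL 81920 512 = true := by decide +kernel
theorem c_w_161 : chkRange ONa.px lb 3 WL 82432 512 = true := by decide +kernel
theorem c_w_162 : chkRange ONa.px lb 3 WL 82944 512 = true := by decide +kernel
theorem c_w_163 : chkRange ONa.px lb 3 WL 83456 512 = true := by decide +kernel
theorem c_w_164 : chkRange ONa.px lb 3 WL 83968 512 = true := by decide +kernel
theorem c_w_165 : chkRange ONa.px lb 3 WL 84480 512 = true := by decide +kernel
theorem c_w_166 : chkRange ONa.px lb 3 WL 84992 512 = true := by decide +kernel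
theorem c_w_167 : chkRange ONa.px lb 3 WL 85504 512 = true := by decide +kernel
theorem c_w_168 : chkRange ONa.px lb 3 WL 86016 512 = true := by decide +kernel
theorem c_w_169 : chkRange ONa.px lb 3 WL 86528 512 = true := by decide +kernel
theorem c_w_170 : chkRange ONa.px lb 3 WL 87040 512 = true := by decide +kernel
theorem c_w_171 : chkRange ONa.px lb 3 WL 87552 512 = true := by decide +kernel
theorem c_w_172 : chkRange ONa.px lb 3 WL 88064 512 = true := by decide +kernel
theorem c_w_173 : chkRange ONa.px lb 3 WL 88576 512 = true := by decide +kernel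
theorem c_w_174 : chkRange ONa.px lb 3 WL 89088 512 = true := by decide +kernel
theorem c_w_175 : chkRange ONa.px lb 3 WL 89600 512 = true := by decide +kernel
theorem c_w_176 : chkRange ONa.px lb 3 WL 90112 512 = true := by decide +kernel
theorem c_w_177 : chkRange ONa.px lb 3 WL 90624 512 = true := by decide +kernel
theorem c_w_178 : chkRange ONa.px lb 3 WL 91136 512 = true := by decide +kernel
theorem c_w_179 : chkRange ONa.px lb 3 WL 91648 512 = true := by decide +kernel

/-- the walks of the relators on the points from 76800 to 92160 -/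
theorem walk_ok_5 (j : ℕ) (h1 : 76800 ≤ j) (h2 : j < 92160) :
    ∀ we ∈ WL, wapp ONa.px we.1 j = j ∧ (lsum ONa.px lb we.1 j) % 3 = we.2 := by
  rcases Nat.lt_or_ge j 77312 with g150 | g150
  · exact chkRange_spec ONa.px lb 3 WL 76800 512 c_w_150 j (by omega) (by omega)
  rcases Nat.lt_or_ge j 77824 with g151 | g151
  · exact chkRange_spec ONa.px lb 3 WL 77312 512 c_w_151 j (by omega) (by omega)
  rcases Nat.lt_or_ge j 78336 with g152 | g152
  · exact chkRange_spec ONa.px lb 3 WL 77824 512 c_w_152 j (by omega) (by omega)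
  rcases Nat.lt_or_ge j 78848 with g153 | g153
  · exact chkRange_spec ONa.px lb 3 WL 78336 512 c_w_153 j (by omega) (by omega)
  rcases Nat.lt_or_ge j 79360 with g154 | g154
  · exact chkRange_spec ONa.px lb 3 WL 78848 512 c_w_154 j (by omega) (by omega)
  rcases Nat.lt_or_ge j 79872 with g155 | g155
  · exact chkRange_spec ONa.px lb 3 WL 79360 512 c_w_155 j (by omega) (by omega)
  rcases Nat.lt_or_ge j 80384 with g156 | g156
  · exact chkRange_spec ONa.px lb 3 WL 79872 512 c_w_156 j (by omega) (by omega)
  rcases Nat.lt_or_ge j 80896 with g157 | g157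
  · exact chkRange_spec ONa.px lb 3 WL 80384 512 c_w_157 j (by omega) (by omega)
  rcases Nat.lt_or_ge j 81408 with g158 | g158
  · exact chkRange_spec ONa.px lb 3 WL 80896 512 c_w_158 j (by omega) (by omega)
  rcases Nat.lt_or_ge j 81920 with g159 | g159
  · exact chkRange_spec ONa.px lb 3 WL 81408 512 c_w_159 j (by omega) (by omega)
  rcases Nat.lt_or_ge j 82432 with g160 | g160
  · exact chkRange_spec ONa.px lb 3 WL 81920 512 c_w_160 j (by omega) (by omega)
  rcases Nat.lt_or_ge j 82944 with g161 | g161
  · exact chkRange_spec ONa.px lb 3 WL 82432 512 c_w_161 j (by omega) (by omega)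
  rcases Nat.lt_or_ge j 83456 with g162 | g162
  · exact chkRange_spec ONa.px lb 3 WL 82944 512 c_w_162 j (by omega) (by omega)
  rcases Nat.lt_or_ge j 83968 with g163 | g163
  · exact chkRange_spec ONa.px lb 3 WL 83456 512 c_w_163 j (by omega) (by omega)
  rcases Nat.lt_or_ge j 84480 with g164 | g164
  · exact chkRange_spec ONa.px lb 3 WL 83968 512 c_w_164 j (by omega) (by omega)
  rcases Nat.lt_or_ge j 84992 with g165 | g165
  · exact chkRange_spec ONa.px lb 3 WL 84480 512 c_w_165 j (by omega) (by omega)
  rcases Nat.lt_or_ge j 85504 with g166 | g166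
  · exact chkRange_spec ONa.px lb 3 WL 84992 512 c_w_166 j (by omega) (by omega)
  rcases Nat.lt_or_ge j 86016 with g167 | g167
  · exact chkRange_spec ONa.px lb 3 WL 85504 512 c_w_167 j (by omega) (by omega)
  rcases Nat.lt_or_ge j 86528 with g168 | g168
  · exact chkRange_spec ONa.px lb 3 WL 86016 512 c_w_168 j (by omega) (by omega)
  rcases Nat.lt_or_ge j 87040 with g169 | g169
  · exact chkRange_spec ONa.px lb 3 WL 86528 512 c_w_169 j (by omega) (by omega)
  rcases Nat.lt_or_ge j 87552 with g170 | g170
  · exact chkRange_spec ONa.px lb 3 WL 87040 512 c_w_170 j (by omega) (by omega)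
  rcases Nat.lt_or_ge j 88064 with g171 | g171
  · exact chkRange_spec ONa.px lb 3 WL 87552 512 c_w_171 j (by omega) (by omega)
  rcases Nat.lt_or_ge j 88576 with g172 | g172
  · exact chkRange_spec ONa.px lb 3 WL 88064 512 c_w_172 j (by omega) (by omega)
  rcases Nat.lt_or_ge j 89088 with g173 | g173
  · exact chkRange_spec ONa.px lb 3 WL 88576 512 c_w_173 j (by omega) (by omega)
  rcases Nat.lt_or_ge j 89600 with g174 | g174
  · exact chkRange_spec ONa.px lb 3 WL 89088 512 c_w_174 j (by omega) (by omega)
  rcases Nat.lt_or_ge j 90112 with g175 | g175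
  · exact chkRange_spec ONa.px lb 3 WL 89600 512 c_w_175 j (by omega) (by omega)
  rcases Nat.lt_or_ge j 90624 with g176 | g176
  · exact chkRange_spec ONa.px lb 3 WL 90112 512 c_w_176 j (by omega) (by omega)
  rcases Nat.lt_or_ge j 91136 with g177 | g177
  · exact chkRange_spec ONa.px lb 3 WL 90624 512 c_w_177 j (by omega) (by omega)
  rcases Nat.lt_or_ge j 91648 with g178 | g178
  · exact chkRange_spec ONa.px lb 3 WL 91136 512 c_w_178 j (by omega) (by omega)
  exact chkRange_spec ONa.px lb 3 WL 91648 512 c_w_179 j (by omega) (by omega)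

end Cfsg.Agent.Lib.Helper4.ONM
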