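import Cfsg.Agent.Lib.Helper4.ONM.Walk
import Cfsg.Agent.Lib.Helper4.ONM.Words
import Cfsg.Agent.Lib.Helper4.ONM.LB
import Cfsg.Agent.Lib.Helper6.TCD.ONa.Par
set_option autoImplicit false
set_option maxRecDepth 1000000
set_option Elab.async false
namespace Cfsg.Agent.Lib.Helper4.ONM
open Cfsg.Agent.Lib.Helper6.TCD Cfsg.Agent.Lib.Helper6.TC
theorem c_w_180 : chkRange ONa.px lb 3 WL 92160 512 = true := by decide +kernel
theorem c_w_181 : chkRange ONa.px lb 3 WL 92672 512 = true := by decide +kernel
theorem c_w_182 : chkRange ONa.px lb 3 WL 93184 512 = true := by decide +kernel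
theorem c_w_183 : chkRange ONa.px lb 3 WL 93696 512 = true := by decide +kernel
theorem c_w_184 : chkRange ONa.px lb 3 WL 94208 512 = true := by decide +kernel
theorem c_w_185 : chkRange ONa.px lb 3 WL 94720 512 = true := by decide +kernel
theorem c_w_186 : chkRange ONa.px lb 3 WL 95232 512 = true := by decide +kernel
theorem c_w_187 : chkRange ONa.px lb 3 WL 95744 512 = true := by decide +kernel
theorem c_w_188 : chkRange ONa.px lb 3 WL 96256 512 = true := by decide +kernel
theorem c_w_189 : chkRange ONa.px lb 3 WL 96768 512 = true := by decide +kernel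
theorem c_w_190 : chkRange ONa.px lb 3 WL 97280 512 = true := by decide +kernel
theorem c_w_191 : chkRange ONa.px lb 3 WL 97792 512 = true := by decide +kernel
theorem c_w_192 : chkRange ONa.px lb 3 WL 98304 512 = true := by decide +kernel
theorem c_w_193 : chkRange ONa.px lb 3 WL 98816 512 = true := by decide +kernel
theorem c_w_194 : chkRange ONa.px lb 3 WL 99328 512 = true := by decide +kernel
theorem c_w_195 : chkRange ONa.px lb 3 WL 99840 512 = true := by decide +kernel
theorem c_w_196 : chkRange ONa.px lb 3 WL 100352 512 = true := by decide +kernel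
theorem c_w_197 : chkRange ONa.px lb 3 WL 100864 512 = true := by decide +kernel
theorem c_w_198 : chkRange ONa.px lb 3 WL 101376 512 = true := by decide +kernel
theorem c_w_199 : chkRange ONa.px lb 3 WL 101888 512 = true := by decide +kernel
theorem c_w_200 : chkRange ONa.px lb 3 WL 102400 512 = true := by decide +kernel
theorem c_w_201 : chkRange ONa.px lb 3 WL 102912 512 = true := by decide +kernel
theorem c_w_202 : chkRange ONa.px lb 3 WL 103424 512 = true := by decide +kernel
theorem c_w_203 : chkRange ONa.px lb 3 WL 103936 512 = true := by decide +kernel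
theorem c_w_204 : chkRange ONa.px lb 3 WL 104448 512 = true := by decide +kernel
theorem c_w_205 : chkRange ONa.px lb 3 WL 104960 512 = true := by decide +kernel
theorem c_w_206 : chkRange ONa.px lb 3 WL 105472 512 = true := by decide +kernel
theorem c_w_207 : chkRange ONa.px lb 3 WL 105984 512 = true := by decide +kernel
theorem c_w_208 : chkRange ONa.px lb 3 WL 106496 512 = true := by decide +kernel
theorem c_w_209 : chkRange ONa.px lb 3 WL 107008 512 = true := by decide +kernel

/-- the walks of the relators on the points from 92160 to 107520 -/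
theorem walk_ok_6 (j : ℕ) (h1 : 92160 ≤ j) (h2 : j < 107520) :
    ∀ we ∈ WL, wapp ONa.px we.1 j = j ∧ (lsum ONa.px lb we.1 j) % 3 = we.2 := by
  rcases Nat.lt_or_ge j 92672 with g180 | g180
  · exact chkRange_spec ONa.px lb 3 WL 92160 512 c_w_180 j (by omega) (by omega)
  rcases Nat.lt_or_ge j 93184 with g181 | g181
  · exact chkRange_spec ONa.px lb 3 WL 92672 512 c_w_181 j (by omega) (by omega)
  rcases Nat.lt_or_ge j 93696 with g182 | g182
  · exact chkRange_spec ONa.px lb 3 WL 93184 512 c_w_182 j (by omega) (by omega)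
  rcases Nat.lt_or_ge j 94208 with g183 | g183
  · exact chkRange_spec ONa.px lb 3 WL 93696 512 c_w_183 j (by omega) (by omega)
  rcases Nat.lt_or_ge j 94720 with g184 | g184
  · exact chkRange_spec ONa.px lb 3 WL 94208 512 c_w_184 j (by omega) (by omega)
  rcases Nat.lt_or_ge j 95232 with g185 | g185
  · exact chkRange_spec ONa.px lb 3 WL 94720 512 c_w_185 j (by omega) (by omega)
  rcases Nat.lt_or_ge j 95744 with g186 | g186
  · exact chkRange_spec ONa.px lb 3 WL 95232 512 c_w_186 j (by omega) (by omega)
  rcases Nat.lt_or_ge j 96256 with g187 | g187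
  · exact chkRange_spec ONa.px lb 3 WL 95744 512 c_w_187 j (by omega) (by omega)
  rcases Nat.lt_or_ge j 96768 with g188 | g188
  · exact chkRange_spec ONa.px lb 3 WL 96256 512 c_w_188 j (by omega) (by omega)
  rcases Nat.lt_or_ge j 97280 with g189 | g189
  · exact chkRange_spec ONa.px lb 3 WL 96768 512 c_w_189 j (by omega) (by omega)
  rcases Nat.lt_or_ge j 97792 with g190 | g190
  · exact chkRange_spec ONa.px lb 3 WL 97280 512 c_w_190 j (by omega) (by omega)
  rcases Nat.lt_or_ge j 98304 with g191 | g191
  · exact chkRange_spec ONa.px lb 3 WL 97792 512 c_w_191 j (by omega) (by omega)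
  rcases Nat.lt_or_ge j 98816 with g192 | g192
  · exact chkRange_spec ONa.px lb 3 WL 98304 512 c_w_192 j (by omega) (by omega)
  rcases Nat.lt_or_ge j 99328 with g193 | g193
  · exact chkRange_spec ONa.px lb 3 WL 98816 512 c_w_193 j (by omega) (by omega)
  rcases Nat.lt_or_ge j 99840 with g194 | g194
  · exact chkRange_spec ONa.px lb 3 WL 99328 512 c_w_194 j (by omega) (by omega)
  rcases Nat.lt_or_ge j 100352 with g195 | g195
  · exact chkRange_spec ONa.px lb 3 WL 99840 512 c_w_195 j (by omega) (by omega)
  rcases Nat.lt_or_ge j 100864 with g196 | g196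
  · exact chkRange_spec ONa.px lb 3 WL 100352 512 c_w_196 j (by omega) (by omega)
  rcases Nat.lt_or_ge j 101376 with g197 | g197
  · exact chkRange_spec ONa.px lb 3 WL 100864 512 c_w_197 j (by omega) (by omega)
  rcases Nat.lt_or_ge j 101888 with g198 | g198
  · exact chkRange_spec ONa.px lb 3 WL 101376 512 c_w_198 j (by omega) (by omega)
  rcases Nat.lt_or_ge j 102400 with g199 | g199
  · exact chkRange_spec ONa.px lb 3 WL 101888 512 c_w_199 j (by omega) (by omega)
  rcases Nat.lt_or_ge j 102912 with g200 | g200
  · exact chkRange_spec ONa.px lb 3 WL 102400 512 c_w_200 j (by omega) (by omega)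
  rcases Nat.lt_or_ge j 103424 with g201 | g201
  · exact chkRange_spec ONa.px lb 3 WL 102912 512 c_w_201 j (by omega) (by omega)
  rcases Nat.lt_or_ge j 103936 with g202 | g202
  · exact chkRange_spec ONa.px lb 3 WL 103424 512 c_w_202 j (by omega) (by omega)
  rcases Nat.lt_or_ge j 104448 with g203 | g203
  · exact chkRange_spec ONa.px lb 3 WL 103936 512 c_w_203 j (by omega) (by omega)
  rcases Nat.lt_or_ge j 104960 with g204 | g204
  · exact chkRange_spec ONa.px lb 3 WL 104448 512 c_w_204 j (by omega) (by omega)
  rcases Nat.lt_or_ge j 105472 with g205 | g205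
  · exact chkRange_spec ONa.px lb 3 WL 104960 512 c_w_205 j (by omega) (by omega)
  rcases Nat.lt_or_ge j 105984 with g206 | g206
  · exact chkRange_spec ONa.px lb 3 WL 105472 512 c_w_206 j (by omega) (by omega)
  rcases Nat.lt_or_ge j 106496 with g207 | g207
  · exact chkRange_spec ONa.px lb 3 WL 105984 512 c_w_207 j (by omega) (by omega)
  rcases Nat.lt_or_ge j 107008 with g208 | g208
  · exact chkRange_spec ONa.px lb 3 WL 106496 512 c_w_208 j (by omega) (by omega)
  exact chkRange_spec ONa.px lb 3 WL 107008 512 c_w_209 j (by omega) (by omega)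

end Cfsg.Agent.Lib.Helper4.ONM
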