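import Cfsg.Agent.Lib.Helper4.ONM.Walk
import Cfsg.Agent.Lib.Helper4.ONM.Words
import Cfsg.Agent.Lib.Helper4.ONM.LB
import Cfsg.Agent.Lib.Helper6.TCD.ONa.Par
set_option autoImplicit false
set_option maxRecDepth 1000000
set_option Elab.async false
namespace Cfsg.Agent.Lib.Helper4.ONM
open Cfsg.Agent.Lib.Helper6.TCD Cfsg.Agent.Lib.Helper6.TC
theorem c_w_210 : chkRange ONa.px lb 3 WL 107520 512 = true := by decide +kernel
theorem c_w_211 : chkRange ONa.px lb 3 WL 108032 512 = true := by decide +kernel
theorem c_w_212 : chkRange ONa.px lb 3 WL 108544 512 = true := by decide +kernel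
theorem c_w_213 : chkRange ONa.px lb 3 WL 109056 512 = true := by decide +kernel
theorem c_w_214 : chkRange ONa.px lb 3 WL 109568 512 = true := by decide +kernel
theorem c_w_215 : chkRange ONa.px lb 3 WL 110080 512 = true := by decide +kernel
theorem c_w_216 : chkRange ONa.px lb 3 WL 110592 512 = true := by decide +kernel
theorem c_w_217 : chkRange ONa.px lb 3 WL 111104 512 = true := by decide +kernel
theorem c_w_218 : chkRange ONa.px lb 3 WL 111616 512 = true := by decide +kernel
theorem c_w_219 : chkRange ONa.px lb 3 WL 112128 512 = true := by decide +kernel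
theorem c_w_220 : chkRange ONa.px lb 3 WL 112640 512 = true := by decide +kernel
theorem c_w_221 : chkRange ONa.px lb 3 WL 113152 512 = true := by decide +kernel
theorem c_w_222 : chkRange ONa.px lb 3 WL 113664 512 = true := by decide +kernel
theorem c_w_223 : chkRange ONa.px lb 3 WL 114176 512 = true := by decide +kernel
theorem c_w_224 : chkRange ONa.px lb 3 WL 114688 512 = true := by decide +kernel
theorem c_w_225 : chkRange ONa.px lb 3 WL 115200 512 = true := by decide +kernel
theorem c_w_226 : chkRange ONa.px lb 3 WL 115712 512 = true := by decide +kernel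
theorem c_w_227 : chkRange ONa.px lb 3 WL 116224 512 = true := by decide +kernel
theorem c_w_228 : chkRange ONa.px lb 3 WL 116736 512 = true := by decide +kernel
theorem c_w_229 : chkRange ONa.px lb 3 WL 117248 512 = true := by decide +kernel
theorem c_w_230 : chkRange ONa.px lb 3 WL 117760 512 = true := by decide +kernel
theorem c_w_231 : chkRange ONa.px lb 3 WL 118272 512 = true := by decide +kernel
theorem c_w_232 : chkRange ONa.px lb 3 WL 118784 512 = true := by decide +kernel
theorem c_w_233 : chkRange ONa.px lb 3 WL 119296 512 = true := by decide +kernel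
theorem c_w_234 : chkRange ONa.px lb 3 WL 119808 512 = true := by decide +kernel
theorem c_w_235 : chkRange ONa.px lb 3 WL 120320 512 = true := by decide +kernel
theorem c_w_236 : chkRange ONa.px lb 3 WL 120832 512 = true := by decide +kernel
theorem c_w_237 : chkRange ONa.px lb 3 WL 121344 512 = true := by decide +kernel
theorem c_w_238 : chkRange ONa.px lb 3 WL 121856 512 = true := by decide +kernel
theorem c_w_239 : chkRange ONa.px lb 3 WL 122368 392 = true := by decide +kernel

/-- the walks of the relators on the points from 107520 to 122760 -/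
theorem walk_ok_7 (j : ℕ) (h1 : 107520 ≤ j) (h2 : j < 122760) :
    ∀ we ∈ WL, wapp ONa.px we.1 j = j ∧ (lsum ONa.px lb we.1 j) % 3 = we.2 := by
  rcases Nat.lt_or_ge j 108032 with g210 | g210
  · exact chkRange_spec ONa.px lb 3 WL 107520 512 c_w_210 j (by omega) (by omega)
  rcases Nat.lt_or_ge j 108544 with g211 | g211
  · exact chkRange_spec ONa.px lb 3 WL 108032 512 c_w_211 j (by omega) (by omega)
  rcases Nat.lt_or_ge j 109056 with g212 | g212
  · exact chkRange_spec ONa.px lb 3 WL 108544 512 c_w_212 j (by omega) (by omega)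
  rcases Nat.lt_or_ge j 109568 with g213 | g213
  · exact chkRange_spec ONa.px lb 3 WL 109056 512 c_w_213 j (by omega) (by omega)
  rcases Nat.lt_or_ge j 110080 with g214 | g214
  · exact chkRange_spec ONa.px lb 3 WL 109568 512 c_w_214 j (by omega) (by omega)
  rcases Nat.lt_or_ge j 110592 with g215 | g215
  · exact chkRange_spec ONa.px lb 3 WL 110080 512 c_w_215 j (by omega) (by omega)
  rcases Nat.lt_or_ge j 111104 with g216 | g216
  · exact chkRange_spec ONa.px lb 3 WL 110592 512 c_w_216 j (by omega) (by omega)
  rcases Nat.lt_or_ge j 111616 with g217 | g217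
  · exact chkRange_spec ONa.px lb 3 WL 111104 512 c_w_217 j (by omega) (by omega)
  rcases Nat.lt_or_ge j 112128 with g218 | g218
  · exact chkRange_spec ONa.px lb 3 WL 111616 512 c_w_218 j (by omega) (by omega)
  rcases Nat.lt_or_ge j 112640 with g219 | g219
  · exact chkRange_spec ONa.px lb 3 WL 112128 512 c_w_219 j (by omega) (by omega)
  rcases Nat.lt_or_ge j 113152 with g220 | g220
  · exact chkRange_spec ONa.px lb 3 WL 112640 512 c_w_220 j (by omega) (by omega)
  rcases Nat.lt_or_ge j 113664 with g221 | g221
  · exact chkRange_spec ONa.px lb 3 WL 113152 512 c_w_221 j (by omega) (by omega)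
  rcases Nat.lt_or_ge j 114176 with g222 | g222
  · exact chkRange_spec ONa.px lb 3 WL 113664 512 c_w_222 j (by omega) (by omega)
  rcases Nat.lt_or_ge j 114688 with g223 | g223
  · exact chkRange_spec ONa.px lb 3 WL 114176 512 c_w_223 j (by omega) (by omega)
  rcases Nat.lt_or_ge j 115200 with g224 | g224
  · exact chkRange_spec ONa.px lb 3 WL 114688 512 c_w_224 j (by omega) (by omega)
  rcases Nat.lt_or_ge j 115712 with g225 | g225
  · exact chkRange_spec ONa.px lb 3 WL 115200 512 c_w_225 j (by omega) (by omega)
  rcases Nat.lt_or_ge j 116224 with g226 | g226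
  · exact chkRange_spec ONa.px lb 3 WL 115712 512 c_w_226 j (by omega) (by omega)
  rcases Nat.lt_or_ge j 116736 with g227 | g227
  · exact chkRange_spec ONa.px lb 3 WL 116224 512 c_w_227 j (by omega) (by omega)
  rcases Nat.lt_or_ge j 117248 with g228 | g228
  · exact chkRange_spec ONa.px lb 3 WL 116736 512 c_w_228 j (by omega) (by omega)
  rcases Nat.lt_or_ge j 117760 with g229 | g229
  · exact chkRange_spec ONa.px lb 3 WL 117248 512 c_w_229 j (by omega) (by omega)
  rcases Nat.lt_or_ge j 118272 with g230 | g230
  · exact chkRange_spec ONa.px lb 3 WL 117760 512 c_w_230 j (by omega) (by omega)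
  rcases Nat.lt_or_ge j 118784 with g231 | g231
  · exact chkRange_spec ONa.px lb 3 WL 118272 512 c_w_231 j (by omega) (by omega)
  rcases Nat.lt_or_ge j 119296 with g232 | g232
  · exact chkRange_spec ONa.px lb 3 WL 118784 512 c_w_232 j (by omega) (by omega)
  rcases Nat.lt_or_ge j 119808 with g233 | g233
  · exact chkRange_spec ONa.px lb 3 WL 119296 512 c_w_233 j (by omega) (by omega)
  rcases Nat.lt_or_ge j 120320 with g234 | g234
  · exact chkRange_spec ONa.px lb 3 WL 119808 512 c_w_234 j (by omega) (by omega)
  rcases Nat.lt_or_ge j 120832 with g235 | g235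
  · exact chkRange_spec ONa.px lb 3 WL 120320 512 c_w_235 j (by omega) (by omega)
  rcases Nat.lt_or_ge j 121344 with g236 | g236
  · exact chkRange_spec ONa.px lb 3 WL 120832 512 c_w_236 j (by omega) (by omega)
  rcases Nat.lt_or_ge j 121856 with g237 | g237
  · exact chkRange_spec ONa.px lb 3 WL 121344 512 c_w_237 j (by omega) (by omega)
  rcases Nat.lt_or_ge j 122368 with g238 | g238
  · exact chkRange_spec ONa.px lb 3 WL 121856 512 c_w_238 j (by omega) (by omega)
  exact chkRange_spec ONa.px lb 3 WL 122368 392 c_w_239 j (by omega) (by omega)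

end Cfsg.Agent.Lib.Helper4.ONM
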