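import Cfsg.Agent.Lib.Helper6.TC1
import Cfsg.Agent.Lib.Helper6.TC8

set_option autoImplicit false

/-! # Walks along words in a table of permutations with labels: the check of the relators -/

namespace Cfsg.Agent.Lib.Helper4.ONM

open Cfsg.Agent.Lib.Helper6.TC

/-- apply a function to a number after evaluating it -/
noncomputable def sB (f : ℕ → Bool) (n : ℕ) : Bool :=
  Nat.rec (motive := fun _ => Bool) (f 0) (fun m _ => f (m + 1)) n

theorem sB_eq (f : ℕ → Bool) (n : ℕ) : sB f n = f n := by
  cases n <;> rfl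

variable (px lb : ℕ → ℕ → ℕ)

/-- the sum of the labels along a word -/
def lsum : List ℕ → ℕ → ℕ
  | [], _ => 0
  | c :: w, p => lb c p + lsum w (px c p)

theorem lsum_nil (p : ℕ) : lsum px lb [] p = 0 := rfl

theorem lsum_cons (c : ℕ) (w : List ℕ) (p : ℕ) :
    lsum px lb (c :: w) p = lb c p + lsum px lb w (px c p) := rfl

/-- the check of a word at the point `j`: the walk comes back to `j` and the sum of the labels is
`e` modulo `q` -/
noncomputable def chkW (q j e : ℕ) : List ℕ → ℕ → ℕ → Bool
  | [], p, s => band (Nat.beq p j) (Nat.beq (s % q) e)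
  | c :: w, p, s => sB (fun p' => sB (fun s' => chkW q j e w p' s') (s + lb c p)) (px c p)

theorem chkW_spec (q j e : ℕ) (w : List ℕ) (p s : ℕ) (h : chkW px lb q j e w p s = true) :
    wapp px w p = j ∧ (s + lsum px lb w p) % q = e := by
  induction w generalizing p s with
  | nil =>
    unfold chkW at h
    rw [band_eq_true, Nat.beq_eq, Nat.beq_eq] at h
    rw [wapp_nil, lsum_nil, Nat.add_zero]
    exact ⟨h.1, h.2⟩
  | cons c w ih =>
    unfold chkW at h
    rw [sB_eq, sB_eq] at h
    obtain ⟨h1, h2⟩ := ih _ _ h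
    rw [wapp_cons, lsum_cons, ← Nat.add_assoc]
    exact ⟨h1, h2⟩

/-- the check of a list of words with their sums at a point -/
noncomputable def chkAll (q : ℕ) : List (List ℕ × ℕ) → ℕ → Bool
  | [], _ => true
  | we :: L, j => band (chkW px lb q j we.2 we.1 j 0) (chkAll q L j)

theorem chkAll_spec (q : ℕ) (L : List (List ℕ × ℕ)) (j : ℕ) (h : chkAll px lb q L j = true) :
    ∀ we ∈ L, wapp px we.1 j = j ∧ (lsum px lb we.1 j) % q = we.2 := by
  induction L with
  | nil => intro we hwe; simp at hwe
  | cons a L ih =>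
    unfold chkAll at h
    rw [band_eq_true] at h
    intro we hwe
    rcases List.mem_cons.mp hwe with rfl | hm
    · have := chkW_spec px lb q j we.2 we.1 j 0 h.1
      rwa [Nat.zero_add] at this
    · exact ih h.2 we hm

/-- the check on a range of points -/
noncomputable def chkRange (q : ℕ) (L : List (List ℕ × ℕ)) (lo cnt : ℕ) : Bool :=
  allB (fun i => chkAll px lb q L (lo + i)) cnt

theorem chkRange_spec (q : ℕ) (L : List (List ℕ × ℕ)) (lo cnt : ℕ)
    (h : chkRange px lb q L lo cnt = true) (j : ℕ) (h1 : lo ≤ j) (h2 : j < lo + cnt) :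
    ∀ we ∈ L, wapp px we.1 j = j ∧ (lsum px lb we.1 j) % q = we.2 := by
  have := allB_spec h (j - lo) (by omega)
  have e : lo + (j - lo) = j := by omega
  rw [e] at this
  exact chkAll_spec px lb q L j this

end Cfsg.Agent.Lib.Helper4.ONM
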