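import Cfsg.Agent.Lib.Helper4.PCov.Cover3
import Cfsg.Agent.Lib.Helper4.ONM.Walk

set_option autoImplicit false

/-! # The labelled permutations of the letters of a table, and the action of the words -/

namespace Cfsg.Agent.Lib.Helper4.ONM

open Cfsg.Agent.Lib.Helper6.TC Cfsg.Agent.Lib.Helper4.PCov

section

variable {px : ℕ → ℕ → ℕ} {N ncol INV : ℕ} (hP : PHyp px N ncol INV) (lb : ℕ → ℕ → ℕ) (q : ℕ)

/-- the labelled permutation of a letter -/
noncomputable def Yc (c : ℕ) : Equiv.Perm (Fin N × ZMod q) :=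
  Equiv.prodShear (colPerm hP c) (fun i => Equiv.addRight ((lb c i.val : ℕ) : ZMod q))

theorem Yc_apply (c : ℕ) (x : Fin N × ZMod q) :
    Yc hP lb q c x = (colPerm hP c x.1, x.2 + ((lb c x.1.val : ℕ) : ZMod q)) := rfl

theorem Yc_commute (c : ℕ) (e : ZMod q) : Commute (Yc hP lb q c) (zs (Fin N) q e) := by
  show Yc hP lb q c * zs (Fin N) q e = zs (Fin N) q e * Yc hP lb q c
  ext x
  · rfl
  · show x.2 + e + ((lb c x.1.val : ℕ) : ZMod q) = x.2 + ((lb c x.1.val : ℕ) : ZMod q) + e
    ring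

/-- the product of the labelled permutations along a word, the first letter acting first -/
noncomputable def Yw : List ℕ → Equiv.Perm (Fin N × ZMod q)
  | [] => 1
  | c :: w => Yw w * Yc hP lb q c

theorem Yw_nil : Yw hP lb q [] = 1 := rfl

theorem Yw_cons (c : ℕ) (w : List ℕ) : Yw hP lb q (c :: w) = Yw hP lb q w * Yc hP lb q c := rfl

theorem Yw_apply (w : List ℕ) (hw : ∀ c ∈ w, c < ncol) (x : Fin N × ZMod q) :
    ((Yw hP lb q w x).1.val = wapp px w x.1.val) ∧
      (Yw hP lb q w x).2 = x.2 + ((lsum px lb w x.1.val : ℕ) : ZMod q) := by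
  induction w generalizing x with
  | nil =>
    rw [Yw_nil, wapp_nil, lsum_nil]
    simp
  | cons c w ih =>
    have hc : c < ncol := hw c List.mem_cons_self
    obtain ⟨h1, h2⟩ := ih (fun d hd => hw d (List.mem_cons_of_mem _ hd)) (Yc hP lb q c x)
    rw [Yw_cons, Equiv.Perm.mul_apply, wapp_cons, lsum_cons]
    constructor
    · rw [h1, Yc_apply, colPerm_apply hP hc]
    · rw [h2, Yc_apply, colPerm_apply hP hc]
      push_cast
      ring

/-- a word whose walk is closed with sum of labels `e` acts as the shift by `e` -/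
theorem Yw_eq_zs (w : List ℕ) (hw : ∀ c ∈ w, c < ncol) (e : ℕ)
    (h : ∀ j < N, wapp px w j = j ∧ (lsum px lb w j) % q = e) :
    Yw hP lb q w = zs (Fin N) q (e : ZMod q) := by
  ext x
  · rw [(Yw_apply hP lb q w hw x).1, (h x.1.val x.1.isLt).1]
    rfl
  · rw [(Yw_apply hP lb q w hw x).2, zs_apply, ← (h x.1.val x.1.isLt).2, ZMod.natCast_mod]

end

section lam

variable {px : ℕ → ℕ → ℕ} {N ncol INV : ℕ} (hP : PHyp px N ncol INV) (lb : ℕ → ℕ → ℕ) (q : ℕ)
  {Gen : Type} (gc : ℕ → Gen × Bool) (col : Gen → ℕ)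

/-- the labelled permutation of a generator -/
noncomputable def Xg (x : Gen) : Equiv.Perm (Fin N × ZMod q) := (Yc hP lb q (col x))⁻¹

theorem Xg_commute (x : Gen) (e : ZMod q) : Commute (Xg hP lb q col x) (zs (Fin N) q e) :=
  (Yc_commute hP lb q (col x) e).inv_left

variable (hC : CHyp gc col ncol INV)
  (hinvY : ∀ c < ncol, Yc hP lb q (invc INV c) = (Yc hP lb q c)⁻¹)
include hC hinvY

theorem lam_ceOf {c : ℕ} (hc : c < ncol) :
    lam (Xg hP lb q col) (ceOf gc c) = (Yc hP lb q c)⁻¹ := by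
  unfold ceOf lam
  cases hb : (gc c).2 with
  | false =>
    rw [cond_false, FreeGroup.lift_apply_of, Xg, hC.hgc c hc hb]
  | true =>
    rw [cond_true, map_inv, FreeGroup.lift_apply_of, Xg, inv_inv]
    have h1 := hC.hgc' c hc hb
    have h2 := hinvY _ (hC.hcol (gc c).1).1
    rw [h1] at h2
    rw [h2, inv_inv]

theorem lam_wordElt (w : List ℕ) (hw : ∀ c ∈ w, c < ncol) :
    lam (Xg hP lb q col) (wordElt gc w) = (Yw hP lb q w)⁻¹ := by
  induction w with
  | nil => rw [wordElt_nil, map_one, Yw_nil, inv_one]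
  | cons c w ih =>
    rw [wordElt_cons, map_mul, lam_ceOf hP lb q gc col hC hinvY (hw c List.mem_cons_self),
      ih (fun d hd => hw d (List.mem_cons_of_mem _ hd)), Yw_cons, mul_inv_rev]

/-- the element of a word whose walk is closed with sum of labels `e` acts as the shift by `-e` -/
theorem lam_wordElt_eq_zs (w : List ℕ) (hw : ∀ c ∈ w, c < ncol) (e : ℕ)
    (h : ∀ j < N, wapp px w j = j ∧ (lsum px lb w j) % q = e) :
    lam (Xg hP lb q col) (wordElt gc w) = zs (Fin N) q (-(e : ZMod q)) := by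
  rw [lam_wordElt hP lb q gc col hC hinvY w hw, Yw_eq_zs hP lb q w hw e h, inv_eq_iff_mul_eq_one,
    zs_mul, add_neg_cancel, zs_zero]

/-- the same for the rotation of the word by one letter -/
theorem lam_wordElt_rotate (w : List ℕ) (hw : ∀ c ∈ w, c < ncol) (e : ZMod q)
    (h : lam (Xg hP lb q col) (wordElt gc w) = zs (Fin N) q e) :
    lam (Xg hP lb q col) (wordElt gc (w.rotate 1)) = zs (Fin N) q e := by
  cases w with
  | nil => exact h
  | cons c t =>
    have e1 : (c :: t).rotate 1 = t ++ [c] := by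
      rw [List.rotate_cons_succ, List.rotate_zero]
    rw [e1, wordElt_append, wordElt_cons, wordElt_nil, mul_one]
    rw [wordElt_cons, map_mul] at h
    rw [map_mul]
    have hcm : Commute (lam (Xg hP lb q col) (ceOf gc c)) (zs (Fin N) q e) :=
      lam_commute _ (Xg_commute hP lb q col) _ e
    have h2 : lam (Xg hP lb q col) (wordElt gc t) =
        (lam (Xg hP lb q col) (ceOf gc c))⁻¹ * zs (Fin N) q e := by
      rw [← h, inv_mul_cancel_left]
    rw [h2, mul_assoc, ← hcm.eq, inv_mul_cancel_left]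

end lam

end Cfsg.Agent.Lib.Helper4.ONM
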