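import Cfsg.Agent.Lib.Helper4.PCov.Cover4
import Cfsg.Agent.Lib.Helper4.ONM.LPerm
import Cfsg.Agent.Lib.Helper4.ONM.CW0
import Cfsg.Agent.Lib.Helper4.ONM.CW1
import Cfsg.Agent.Lib.Helper4.ONM.CW2
import Cfsg.Agent.Lib.Helper4.ONM.CW3
import Cfsg.Agent.Lib.Helper4.ONM.CW4
import Cfsg.Agent.Lib.Helper4.ONM.CW5
import Cfsg.Agent.Lib.Helper4.ONM.CW6
import Cfsg.Agent.Lib.Helper4.ONM.CW7
import Cfsg.Agent.Lib.Helper6.TCP.ON

set_option autoImplicit false

/-! # The triple cover of the O'Nan group: a stem extension with kernel of order 3 -/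

namespace Cfsg.Agent.Lib.Helper4.ONM

open Cfsg.Spor Cfsg.Agent.Lib.Helper6.TC Cfsg.Agent.Lib.Helper6.TCD
open Cfsg.Agent.Lib.Helper6.TCP.ON Cfsg.Agent.Lib.Helper4.PCov

/-- every relator word is a closed walk at every point, with the listed sum of labels -/
theorem walk_ok (j : ℕ) (hj : j < 122760) :
    ∀ we ∈ WL, wapp ONa.px we.1 j = j ∧ (lsum ONa.px lb we.1 j) % 3 = we.2 := by
  rcases Nat.lt_or_ge j 15360 with h0 | h0
  · exact walk_ok_0 j (Nat.zero_le j) h0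
  rcases Nat.lt_or_ge j 30720 with h1 | h1
  · exact walk_ok_1 j h0 h1
  rcases Nat.lt_or_ge j 46080 with h2 | h2
  · exact walk_ok_2 j h1 h2
  rcases Nat.lt_or_ge j 61440 with h3 | h3
  · exact walk_ok_3 j h2 h3
  rcases Nat.lt_or_ge j 76800 with h4 | h4
  · exact walk_ok_4 j h3 h4
  rcases Nat.lt_or_ge j 92160 with h5 | h5
  · exact walk_ok_5 j h4 h5
  rcases Nat.lt_or_ge j 107520 with h6 | h6
  · exact walk_ok_6 j h5 h6
  exact walk_ok_7 j h6 hj

theorem base_eq_WL : base = WL.map Prod.fst := by decide +kernel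

section

variable (hP : PHyp ONa.px ONa.N 8 INV)

/-- the labelled permutation of a letter -/
noncomputable abbrev Y (c : ℕ) : Equiv.Perm (Fin ONa.N × ZMod 3) :=
  Yc hP lb 3 c

/-- the labelled permutation of a generator -/
noncomputable abbrev X (x : ON.Gen) : Equiv.Perm (Fin ONa.N × ZMod 3) :=
  Xg hP lb 3 col x

theorem Yw_of_mem (we : List ℕ × ℕ) (hwe : we ∈ WL) :
    Yw hP lb 3 we.1 = zs (Fin ONa.N) 3 ((we.2 : ℕ) : ZMod 3) := by
  apply Yw_eq_zs
  · apply hbl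
    rw [base_eq_WL]
    exact List.mem_map_of_mem hwe
  · intro j hj
    exact walk_ok j hj we hwe

theorem Y_mul_of_mem (c d : ℕ) (h : ([c, d], 0) ∈ WL) : Y hP d * Y hP c = 1 := by
  have := Yw_of_mem hP _ h
  rw [Yw_cons, Yw_cons, Yw_nil, one_mul] at this
  rw [this]
  simp only [Nat.cast_zero]
  exact zs_zero

theorem hinvY : ∀ c < 8, Y hP (invc INV c) = (Y hP c)⁻¹ := by
  intro c hc
  interval_cases c
  · show Y hP 1 = (Y hP 0)⁻¹
    exact eq_inv_of_mul_eq_one_left (Y_mul_of_mem hP 0 1 (by decide +kernel))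
  · show Y hP 0 = (Y hP 1)⁻¹
    exact eq_inv_of_mul_eq_one_right (Y_mul_of_mem hP 0 1 (by decide +kernel))
  · show Y hP 2 = (Y hP 2)⁻¹
    exact eq_inv_of_mul_eq_one_left (Y_mul_of_mem hP 2 2 (by decide +kernel))
  · show Y hP 3 = (Y hP 3)⁻¹
    exact eq_inv_of_mul_eq_one_left (Y_mul_of_mem hP 3 3 (by decide +kernel))
  · show Y hP 4 = (Y hP 4)⁻¹
    exact eq_inv_of_mul_eq_one_left (Y_mul_of_mem hP 4 4 (by decide +kernel))
  · show Y hP 5 = (Y hP 5)⁻¹
    exact eq_inv_of_mul_eq_one_left (Y_mul_of_mem hP 5 5 (by decide +kernel))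
  · show Y hP 6 = (Y hP 6)⁻¹
    exact eq_inv_of_mul_eq_one_left (Y_mul_of_mem hP 6 6 (by decide +kernel))
  · show Y hP 7 = (Y hP 7)⁻¹
    exact eq_inv_of_mul_eq_one_left (Y_mul_of_mem hP 7 7 (by decide +kernel))

/-- the value of the labelled action on a relator word -/
theorem lam_of_mem (we : List ℕ × ℕ) (hwe : we ∈ WL) :
    lam (X hP) (wordElt gc we.1) = zs (Fin ONa.N) 3 (-((we.2 : ℕ) : ZMod 3)) := by
  apply lam_wordElt_eq_zs hP lb 3 gc col hC (hinvY hP)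
  · apply hbl
    rw [base_eq_WL]
    exact List.mem_map_of_mem hwe
  · intro j hj
    exact walk_ok j hj we hwe

theorem lam_base (b : List ℕ) (hb : b ∈ base) : ∃ c, lam (X hP) (wordElt gc b) = zs (Fin ONa.N) 3 c := by
  rw [base_eq_WL, List.mem_map] at hb
  obtain ⟨we, hwe, rfl⟩ := hb
  exact ⟨_, lam_of_mem hP we hwe⟩

theorem X_inv (x : ON.Gen) (hx : x ∈ coxNodes ON.edges) :
    (lam (X hP) (FreeGroup.of x))⁻¹ = lam (X hP) (FreeGroup.of x) := by
  have h1 := hinvY hP (col x) (col_lt x)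
  have h2 : invc INV (col x) = col x := by
    cases x
    · exact absurd hx (by decide)
    all_goals rfl
  rw [h2] at h1
  show (FreeGroup.lift (X hP) (FreeGroup.of x))⁻¹ = FreeGroup.lift (X hP) (FreeGroup.of x)
  rw [FreeGroup.lift_apply_of]
  show ((Y hP (col x))⁻¹)⁻¹ = (Y hP (col x))⁻¹
  rw [inv_inv]
  exact h1

/-- every relator acts as a shift -/
theorem hrel : ∀ r ∈ Rels, ∃ c, lam (X hP) r = zs (Fin ONa.N) 3 c := by
  intro r hr
  rcases hr with hr | hr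
  · obtain ⟨x, hxn, y, hyn, rfl⟩ := hr
    rw [← wordElt_pairw (gc_col x) (gc_col y)]
    rcases pair_cover x y hxn hyn with h | ⟨b, hb, h⟩
    · exact lam_base hP _ h
    · obtain ⟨c, hc⟩ := lam_base hP b hb
      rw [h]
      exact ⟨c, lam_wordElt_rotate hP lb 3 gc col hC (hinvY hP) b (hbl b hb) c hc⟩
  · have hr' : r ∈ ON.extra := hr
    simp only [ON.extra, List.mem_cons, List.mem_nil_iff, or_false] at hr'
    rcases hr' with rfl | rfl | rfl | rfl | rfl | rfl | rfl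
    · rw [extra0 (lam (X hP)) (X_inv hP)]; exact lam_base hP _ extra_mem.1
    · rw [extra1 (lam (X hP)) (X_inv hP)]; exact lam_base hP _ extra_mem.2.1
    · rw [extra2 (lam (X hP)) (X_inv hP)]; exact lam_base hP _ extra_mem.2.2.1
    · rw [extra3 (lam (X hP)) (X_inv hP)]; exact lam_base hP _ extra_mem.2.2.2.1
    · rw [extra4 (lam (X hP)) (X_inv hP)]; exact lam_base hP _ extra_mem.2.2.2.2.1
    · rw [extra5 (lam (X hP)) (X_inv hP)]; exact lam_base hP _ extra_mem.2.2.2.2.2.1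
    · rw [extra6 (lam (X hP)) (X_inv hP)]; exact lam_base hP _ extra_mem.2.2.2.2.2.2

end

end Cfsg.Agent.Lib.Helper4.ONM
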