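import Cfsg.Agent.Lib.Helper4.ONM.Exist

set_option autoImplicit false

/-! # The triple cover of the O'Nan group: the shifts of the relators are not the values of a
homomorphism, and the stem extension -/

namespace Cfsg.Agent.Lib.Helper4.ONM

open Cfsg.Spor Cfsg.Agent.Lib.Helper6.TC Cfsg.Agent.Lib.Helper6.TCD
open Cfsg.Agent.Lib.Helper6.TCP.ON Cfsg.Agent.Lib.Helper4.PCov

section

variable (hP : PHyp ONa.px ONa.N 8 INV)

/-- the value of a homomorphism to the integers modulo 3 on a word of letters -/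
theorem lift_node (a : ON.Gen → ZMod 3) (x : ON.Gen) (hx : x ∈ coxNodes ON.edges)
    (ha : ∀ r ∈ Rels, ∀ c, lam (X hP) r = zs (Fin ONa.N) 3 c →
      FreeGroup.lift (fun x => Multiplicative.ofAdd (a x)) r = Multiplicative.ofAdd c) :
    a x = 0 := by
  have hr : (FreeGroup.of x * FreeGroup.of x) ^ coxLabel ON.edges x x ∈ Rels :=
    Or.inl ⟨x, hx, x, hx, rfl⟩
  have hm : (pairw (col x) (col x) (coxLabel ON.edges x x), 0) ∈ WL := by
    cases x
    · exact absurd hx (by decide)
    all_goals decide +kernel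
  have h1 := lam_of_mem hP _ hm
  rw [wordElt_pairw (gc_col x) (gc_col x)] at h1
  have h2 := ha _ hr _ h1
  have e1 : coxLabel ON.edges x x = 1 := by
    unfold coxLabel
    rw [if_pos rfl]
  rw [e1, pow_one, map_mul, FreeGroup.lift_apply_of, ← ofAdd_add] at h2
  have h3 := Multiplicative.ofAdd.injective h2
  simp only [Nat.cast_zero, neg_zero] at h3
  revert h3
  generalize a x = z
  revert z
  decide

theorem hns : ¬ ∃ a : ON.Gen → ZMod 3, ∀ r ∈ Rels, ∀ c, lam (X hP) r = zs (Fin ONa.N) 3 c →
    FreeGroup.lift (fun x => Multiplicative.ofAdd (a x)) r = Multiplicative.ofAdd c := by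
  rintro ⟨a, ha⟩
  have hna := lift_node hP a .a (by decide) ha
  have hnb := lift_node hP a .b (by decide) ha
  have hnc := lift_node hP a .c (by decide) ha
  have hnd := lift_node hP a .d (by decide) ha
  have hnf := lift_node hP a .f (by decide) ha
  -- the generator outside the graph
  have hg : a .g = 0 := by
    have hr : (ON.a * ON.f) * ((ON.g ^ 2)⁻¹) ∈ Rels := Or.inr (by simp [ON.extra])
    have h1 := lam_of_mem hP (w0, 0) (by decide +kernel)
    rw [← extra0 (lam (X hP)) (X_inv hP)] at h1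
    have h2 := ha _ hr _ h1
    simp only [map_mul, map_inv, map_pow, FreeGroup.lift_apply_of, hna, hnf, ofAdd_zero, one_mul,
      Nat.cast_zero, neg_zero] at h2
    rw [← ofAdd_nsmul, ← ofAdd_neg] at h2
    have h3 := Multiplicative.ofAdd.injective h2
    revert h3
    generalize a .g = z
    revert z
    decide
  -- the relator of order five
  have hr : (ON.b * ON.c * ON.d * ON.g) ^ 5 ∈ Rels := Or.inr (by simp [ON.extra])
  have h1 := lam_of_mem hP (w4, 2) (by decide +kernel)
  rw [← extra4 (lam (X hP)) (X_inv hP)] at h1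
  have h2 := ha _ hr _ h1
  simp only [map_mul, map_pow, FreeGroup.lift_apply_of, hnb, hnc, hnd, hg, ofAdd_zero, one_mul,
    one_pow] at h2
  have h3 : (0 : ZMod 3) = -((2 : ℕ) : ZMod 3) := Multiplicative.ofAdd.injective h2
  revert h3
  decide

include hP in
/-- **the triple cover of the O'Nan group** -/
theorem exists_cover_ON [Finite ON] (hperf : commutator ON = ⊤) :
    ∃ (Γ₀ : Type) (_ : Group Γ₀) (_ : Finite Γ₀) (σ₀ : Γ₀ →* ON),
      Cfsg.IsStemExtension σ₀ ∧ Nonempty (σ₀.ker ≃* Multiplicative (ZMod 3)) := by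
  haveI : Fact (Nat.Prime 3) := ⟨Nat.prime_three⟩
  haveI : Nonempty (Fin ONa.N) := ⟨⟨0, hP.Npos⟩⟩
  exact exists_cover' Rels (X hP) hperf (fun x c => Xg_commute hP lb 3 col x c) (hrel hP) (hns hP)

end

end Cfsg.Agent.Lib.Helper4.ONM
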