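import Mathlib

set_option autoImplicit false

/-! # A finite simple group whose order is not a prime is perfect -/

namespace Cfsg.Agent.Lib.Helper4.ONM

open scoped commutatorElement

theorem commutator_eq_top_of_simple_card {G : Type*} [Group G] [Finite G] (hs : IsSimpleGroup G)
    (hc : ¬ (Nat.card G).Prime) : commutator G = ⊤ := by
  rcases hs.eq_bot_or_eq_top_of_normal (commutator G) inferInstance with h | h
  · exfalso
    apply hc
    have hcomm : ∀ a b : G, a * b = b * a := by
      intro a b
      have h1 : ⁅a, b⁆ ∈ commutator G :=
        Subgroup.commutator_mem_commutator (Subgroup.mem_top a) (Subgroup.mem_top b)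
      rw [h, Subgroup.mem_bot, commutatorElement_eq_one_iff_mul_comm] at h1
      exact h1
    letI : CommGroup G := { (inferInstance : Group G) with mul_comm := hcomm }
    haveI : IsSimpleGroup G := hs
    exact IsSimpleGroup.prime_card
  · exact h

theorem not_prime_card_ON : ¬ (460815505920 : ℕ).Prime := by
  intro h
  have h2 : (2 : ℕ) ∣ 460815505920 := by norm_num
  have := (Nat.prime_dvd_prime_iff_eq Nat.prime_two h).mp h2
  norm_num at this

end Cfsg.Agent.Lib.Helper4.ONM
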