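import Cfsg.Agent.Lib.Helper4.ONM.U3.Cert
import Cfsg.Agent.Lib.Helper4.ONM.U2.Cert

set_option autoImplicit false
set_option maxRecDepth 100000

/-! # The exponent matrices of the normalising relations, with their adjugates -/

namespace Cfsg.Agent.Lib.Helper4.ONM

open Cfsg.Agent.Lib.Helper1.StemSA

/-- an integer matrix given by the list of its rows -/
def matOf (L : List (List ℤ)) (r g : ℕ) : ℤ := (L.getD r []).getD g 0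

/-- the exponent matrix of the first eight relations (prime 3) -/
def Em3 : ℕ → ℕ → ℤ := matOf
  [[0, 0, 2, 0, 0, 0, 0, 0], [0, 0, 0, 2, 0, 0, 0, 0], [0, 0, 0, 0, 2, 0, 0, 0],
   [0, 0, 0, 0, 0, 2, 0, 0], [0, 0, 0, 0, 0, 0, 2, 0], [0, 0, 0, 0, 0, 0, 0, 2],
   [0, 2, 1, 0, 0, 0, 0, 1], [1, 1, 0, 0, 0, 0, 0, 0]]

/-- its adjugate -/
def Fm3 : ℕ → ℕ → ℤ := matOf
  [[-32, 0, 0, 0, 0, -32, 64, -128], [32, 0, 0, 0, 0, 32, -64, 0], [-64, 0, 0, 0, 0, 0, 0, 0],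
   [0, -64, 0, 0, 0, 0, 0, 0], [0, 0, -64, 0, 0, 0, 0, 0], [0, 0, 0, -64, 0, 0, 0, 0],
   [0, 0, 0, 0, -64, 0, 0, 0], [0, 0, 0, 0, 0, -64, 0, 0]]

theorem hEm3 : ∀ r < D3.k, ∀ g < D3.k, Em3 r g = ((D3.rels.getD r ([], [])).1.count g : ℤ) -
    ((D3.rels.getD r ([], [])).2.count g : ℤ) := by
  show ∀ r < 8, ∀ g < 8, Em3 r g = ((rels3.getD r ([], [])).1.count g : ℤ) -
    ((rels3.getD r ([], [])).2.count g : ℤ)
  decide

theorem hEF3 : ∀ r < D3.k, ∀ j < D3.k,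
    ∑ g ∈ Finset.range D3.k, Em3 r g * Fm3 g j = if r = j then (-128 : ℤ) else 0 := by
  show ∀ r < 8, ∀ j < 8,
    ∑ g ∈ Finset.range 8, Em3 r g * Fm3 g j = if r = j then (-128 : ℤ) else 0
  decide

theorem hDt3 : IsCoprime (-128 : ℤ) ((3 : ℕ) : ℤ) := by
  rw [Int.isCoprime_iff_gcd_eq_one]
  rfl

/-- the exponent matrix of the first eight relations (prime 2) -/
def Em2 : ℕ → ℕ → ℤ := matOf
  [[0, 0, 3, 3, 0, 0, 0, 0], [0, 0, 0, 3, 3, 0, 0, 0], [0, 0, 0, 0, 0, 3, 3, 0],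
   [0, 0, 0, 0, 0, 0, 3, 3], [5, 0, 0, 5, 5, 5, 0, 0], [4, 0, 0, 3, 4, 0, 0, 0],
   [4, 0, 0, 0, 0, 4, 3, 0], [1, 1, 0, 0, 0, 0, 0, 0]]

/-- its adjugate -/
def Fm2 : ℕ → ℕ → ℤ := matOf
  [[0, -135, 405, 0, 81, 0, -405, 0], [0, 135, -405, 0, -81, 0, 405, -1215],
   [-405, 2160, -1620, 0, -324, -1215, 1620, 0], [0, -2160, 1620, 0, 324, 1215, -1620, 0],
   [0, 1755, -1620, 0, -324, -1215, 1620, 0], [0, 540, -405, 0, -324, 0, 405, 0],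
   [0, -540, 0, 0, 324, 0, -405, 0], [0, 540, 0, -405, -324, 0, 405, 0]]

theorem hEm2 : ∀ r < D2.k, ∀ g < D2.k, Em2 r g = ((D2.rels.getD r ([], [])).1.count g : ℤ) -
    ((D2.rels.getD r ([], [])).2.count g : ℤ) := by
  show ∀ r < 8, ∀ g < 8, Em2 r g = ((rels2.getD r ([], [])).1.count g : ℤ) -
    ((rels2.getD r ([], [])).2.count g : ℤ)
  decide

theorem hEF2 : ∀ r < D2.k, ∀ j < D2.k,
    ∑ g ∈ Finset.range D2.k, Em2 r g * Fm2 g j = if r = j then (-1215 : ℤ) else 0 := by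
  show ∀ r < 8, ∀ j < 8,
    ∑ g ∈ Finset.range 8, Em2 r g * Fm2 g j = if r = j then (-1215 : ℤ) else 0
  decide

theorem hDt2 : IsCoprime (-1215 : ℤ) ((2 : ℕ) : ℤ) := by
  rw [Int.isCoprime_iff_gcd_eq_one]
  rfl

end Cfsg.Agent.Lib.Helper4.ONM
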