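import Cfsg.Agent.Lib.Helper4.ONM.UGroup

set_option autoImplicit false
set_option maxRecDepth 100000

/-! # The stabilizer of the first point in the action of the O'Nan group on 122760 points is the
subgroup generated by the six involutions -/

namespace Cfsg.Agent.Lib.Helper4.ONM

open Cfsg.Spor Cfsg.Agent.Lib.Helper6.TC Cfsg.Agent.Lib.Helper6.TCD Cfsg.Agent.Lib.Helper6.TCP.ON
open Cfsg.Agent.Lib.Helper1.StemSA Cfsg.Agent.Lib.Helper1.MatCode Cfsg.Agent.Lib.Helper4.Sparse

/-- the six involutions -/
abbrev SON : Set (FreeGroup ON.Gen) := {ON.a, ON.b, ON.c, ON.d, ON.e, ON.f}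

theorem piON_zero : ∀ i < 8, 2 ≤ i → piON i 0 = 0 := by decide +kernel

section stab

variable {φ : ON →* Equiv.Perm (Fin 122760)} (hφ : RepHyp φ)
include hφ

theorem letter_mem_stab (i : ℕ) (hi : i < 8) (h2 : 2 ≤ i) :
    letI := actON φ
    PresentedGroup.mk Rels (ceOf gc i) ∈ MulAction.stabilizer ON (ptON 0) := by
  letI := actON φ
  rw [MulAction.mem_stabilizer_iff]
  have h := pi_act_ON hφ i hi 0 (by norm_num)
  rw [gsON_getD i hi, piON_zero i hi h2] at h
  exact h

theorem subH_le_stab :
    letI := actON φ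
    subH Rels SON ≤ MulAction.stabilizer ON (ptON 0) := by
  letI := actON φ
  show (Subgroup.closure SON).map (PresentedGroup.mk Rels) ≤ _
  rw [Subgroup.map_le_iff_le_comap, Subgroup.closure_le]
  intro s hs
  simp only [SON, Set.mem_insert_iff, Set.mem_singleton_iff] at hs
  rw [SetLike.mem_coe, Subgroup.mem_comap]
  rcases hs with rfl | rfl | rfl | rfl | rfl | rfl
  · exact letter_mem_stab hφ 2 (by norm_num) (by norm_num)
  · exact letter_mem_stab hφ 3 (by norm_num) (by norm_num)
  · exact letter_mem_stab hφ 4 (by norm_num) (by norm_num)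
  · exact letter_mem_stab hφ 5 (by norm_num) (by norm_num)
  · exact letter_mem_stab hφ 6 (by norm_num) (by norm_num)
  · exact letter_mem_stab hφ 7 (by norm_num) (by norm_num)

theorem stab_eq (F : (ON ⧸ subH Rels SON) ≃ Fin 122760) (hF : ∀ g q, F (g • q) = φ g (F q)) :
    letI := actON φ
    subH Rels SON = MulAction.stabilizer ON (ptON 0) := by
  letI := actON φ
  have hle := subH_le_stab hφ
  have htr : ∀ p : Fin 122760, ∃ g : ON, g • ptON 0 = p := by
    obtain ⟨q0, hq0⟩ := F.surjective (ptON 0)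
    obtain ⟨g0, rfl⟩ := QuotientGroup.mk_surjective q0
    intro p
    obtain ⟨q, hq⟩ := F.surjective p
    obtain ⟨g, rfl⟩ := QuotientGroup.mk_surjective q
    refine ⟨g * g0⁻¹, ?_⟩
    show φ (g * g0⁻¹) (ptON 0) = p
    rw [← hq0, ← hF, ← hq, MulAction.Quotient.smul_mk, smul_eq_mul, inv_mul_cancel_right]
  have h1 : (subH Rels SON).index = 122760 := by
    rw [Subgroup.index_eq_card, Nat.card_congr F, Nat.card_fin]
  have h2 : (MulAction.stabilizer ON (ptON 0)).index = 122760 := by
    rw [MulAction.index_stabilizer]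
    have : MulAction.orbit ON (ptON 0) = Set.univ :=
      Set.eq_univ_of_forall fun p => MulAction.mem_orbit_iff.mpr (htr p)
    rw [this, Set.ncard_univ, Nat.card_fin]
  have h3 := Subgroup.relIndex_mul_index hle
  rw [h1, h2] at h3
  have h4 : (subH Rels SON).relIndex (MulAction.stabilizer ON (ptON 0)) = 1 := by omega
  exact le_antisymm hle (Subgroup.relIndex_eq_one.mp h4)

end stab

end Cfsg.Agent.Lib.Helper4.ONM
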