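import Cfsg.Agent.Lib.Helper4.ONM.Exist2
import Cfsg.Agent.Lib.Helper4.ONM.Perf
import Cfsg.Agent.Lib.Helper4.ONM.UStab
import Cfsg.Agent.Lib.Helper4.ONM.UMat
import Cfsg.Agent.Lib.Helper1.Stem21
import Cfsg.Agent.Lib.Helper1.Stem17
import Cfsg.Agent.Lib.Helper5.StemRes
import Cfsg.Agent.Lib.Helper6.Mult.PM4

set_option autoImplicit false
set_option maxRecDepth 100000

/-! # The multiplier of the O'Nan group is cyclic of order 3, from the checked facts -/

namespace Cfsg.Agent.Lib.Helper4.ONM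

open Cfsg.Spor Cfsg.Agent.Lib.Helper6.TC Cfsg.Agent.Lib.Helper6.TCD Cfsg.Agent.Lib.Helper6.TCP.ON
open Cfsg.Agent.Lib.Helper1.StemSA Cfsg.Agent.Lib.Helper1.MatCode Cfsg.Agent.Lib.Helper4.Sparse
open Cfsg.Agent.Lib.Helper1

/-- the facts on the O'Nan group which the proof uses -/
structure ONHyp (φ : ON →* Equiv.Perm (Fin 122760)) (K₁ : Subgroup ON) : Prop where
  rep : RepHyp φ
  exF : ∃ F : (ON ⧸ subH Rels SON) ≃ Fin 122760, ∀ g q, F (g • q) = φ g (F q)
  card : Nat.card ON = 460815505920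
  simple : IsSimpleGroup ON
  hP : PHyp ONa.px ONa.N 8 INV
  vb2 : ValsBoundN.{0} D2 2 1 8
  vb3 : ValsBoundN.{0} D3 3 1 8
  le : K₁ ≤ subH Rels SON
  cardK : Nat.card (subH Rels SON) = 2 * Nat.card K₁
  perf : commutator K₁ = ⊤
  b2 : ∀ (Γ : Type) [Group Γ] [Finite Γ] (σ : Γ →* K₁),
    Cfsg.IsStemExtension σ → IsPGroup 2 σ.ker → Nat.card σ.ker ≤ 1
  b7 : ∀ (Γ : Type) [Group Γ] [Finite Γ] (σ : Γ →* K₁),
    Cfsg.IsStemExtension σ → IsPGroup 7 σ.ker → Nat.card σ.ker ≤ 1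
  b3 : ∀ (Γ : Type) [Group Γ] [Finite Γ] (σ : Γ →* subH Rels SON),
    Cfsg.IsStemExtension σ → IsPGroup 3 σ.ker → Nat.card σ.ker ≤ 1

theorem rels3_lt : ∀ w ∈ rels3, (∀ i ∈ w.1, i < 8) ∧ ∀ i ∈ w.2, i < 8 := by decide
theorem rels2_lt : ∀ w ∈ rels2, (∀ i ∈ w.1, i < 8) ∧ ∀ i ∈ w.2, i < 8 := by decide
theorem rels3_base : ∀ w ∈ rels3, w.1 ∈ base ∧ w.2 = [] := by decide
theorem rels2_base : ∀ w ∈ rels2, w.1 ∈ base ∧ w.2 = [] := by decide

section

variable {φ : ON →* Equiv.Perm (Fin 122760)} {K₁ : Subgroup ON} (H : ONHyp φ K₁)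
include H

theorem finite_ON : Finite ON :=
  Nat.finite_of_card_ne_zero (by rw [H.card]; norm_num)

theorem index_K : (subH Rels SON).index = 122760 := by
  obtain ⟨F, _⟩ := H.exF
  rw [Subgroup.index_eq_card, Nat.card_congr F, Nat.card_fin]

theorem card_K₁ : Nat.card K₁ = 1876896 := by
  have h1 := Subgroup.card_mul_index (subH Rels SON)
  rw [index_K H, H.card, H.cardK] at h1
  omega

theorem index_K₁ : K₁.index = 245520 := by
  have h1 := Subgroup.card_mul_index K₁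
  rw [card_K₁ H, H.card] at h1
  omega

/-- the kernels which are 2-groups -/
theorem bound2 (Γ : Type) [Group Γ] [Finite Γ] (σ : Γ →* ON) (hσ : Cfsg.IsStemExtension σ)
    (hk : IsPGroup 2 σ.ker) : Nat.card σ.ker ≤ 1 := by
  haveI : Fact (Nat.Prime 2) := ⟨Nat.prime_two⟩
  haveI := finite_ON H
  letI := actON φ
  obtain ⟨F, hF⟩ := H.exF
  obtain ⟨a, ha⟩ := IsPGroup.iff_card.mp hk
  obtain ⟨Q, iQ, iC, q, hq, hQ, hK₁⟩ := Cfsg.Agent.Lib.Helper6.PM.exists_quot_two
    (subH Rels SON) K₁ H.le H.cardK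
  have hS : D2.chkStruct = true := chkStruct_DON H.rep rels2 rels2_lt
  have h := card_ker_mul_le_pow_mul_valsN.{0} 2 D2 1 H.vb2 hS (by show 0 < 122760; norm_num)
    (by show ∀ i < 8, ([0, 0, 0, 0, 0, 0, 0, 0] : List ℕ).getD i 0 = 0; decide)
    (by show 8 ≤ rels2.length; decide) Em2 Fm2 (-1215) hDt2 hEm2 hEF2 ptON gsON gsON_gen
    pt_zero_ON (pi_act_ON H.rep) (hrel_ON rels2 rels2_base) (subH Rels SON)
    (stab_eq H.rep F hF) q hq 1 hQ K₁ H.le hK₁ H.perf 1 H.b2 Γ σ hσ a ha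
  omega

/-- the kernels which are 3-groups -/
theorem bound3 (Γ : Type) [Group Γ] [Finite Γ] (σ : Γ →* ON) (hσ : Cfsg.IsStemExtension σ)
    (hk : IsPGroup 3 σ.ker) : Nat.card σ.ker ≤ 3 := by
  haveI : Fact (Nat.Prime 3) := ⟨Nat.prime_three⟩
  haveI := finite_ON H
  letI := actON φ
  obtain ⟨F, hF⟩ := H.exF
  obtain ⟨Q, iQ, iC, q, hq, hQ, hK₁⟩ := Cfsg.Agent.Lib.Helper6.PM.exists_quot_two
    (subH Rels SON) K₁ H.le H.cardK
  haveI : Finite Q := Nat.finite_of_card_ne_zero (by rw [hQ]; norm_num)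
  have hS : D3.chkStruct = true := chkStruct_DON H.rep rels3 rels3_lt
  have h := card_ker_le_pow_mul_cycN.{0} 3 D3 1 H.vb3 hS (by show 0 < 122760; norm_num)
    (by show ∀ i < 8, ([0, 0, 0, 0, 0, 0, 0, 0] : List ℕ).getD i 0 = 0; decide)
    (by show 8 ≤ rels3.length; decide) Em3 Fm3 (-128) hDt3 hEm3 hEF3 ptON gsON gsON_gen
    pt_zero_ON (pi_act_ON H.rep) (hrel_ON rels3 rels3_base) (subH Rels SON)
    (stab_eq H.rep F hF) q hq (by rw [hQ]; norm_num) K₁ H.le hK₁ H.perf 1 H.b3 Γ σ hσ hk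
  omega

/-- the kernels which are 7-groups -/
theorem bound7 (Γ : Type) [Group Γ] [Finite Γ] (σ : Γ →* ON) (hσ : Cfsg.IsStemExtension σ)
    (hk : IsPGroup 7 σ.ker) : Nat.card σ.ker ≤ 1 := by
  haveI : Fact (Nat.Prime 7) := ⟨by norm_num⟩
  exact Cfsg.Agent.Lib.Helper5.StemRes.card_ker_le_of_index_coprime σ hσ 7 hk K₁
    (by rw [index_K₁ H]; norm_num) 1 H.b7

end

theorem not_sq_dvd (p : ℕ) (hp : p.Prime) (h2 : p ≠ 2) (h3 : p ≠ 3) (h7 : p ≠ 7) :
    ¬ p * p ∣ 460815505920 := by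
  intro h
  have hd : p ∣ 460815505920 := dvd_trans (dvd_mul_right p p) h
  have e : (460815505920 : ℕ) = 2 ^ 9 * 3 ^ 4 * 7 ^ 3 * 5 * 11 * 19 * 31 := by norm_num
  rw [e] at hd
  have key : ∀ q : ℕ, q.Prime → p ∣ q → p * p ∣ 460815505920 → q * q ∣ 460815505920 := by
    intro q hq hpq hh
    rw [(Nat.prime_dvd_prime_iff_eq hp hq).mp hpq] at hh
    exact hh
  rcases (Nat.Prime.dvd_mul hp).mp hd with hd | hd
  · rcases (Nat.Prime.dvd_mul hp).mp hd with hd | hd
    · rcases (Nat.Prime.dvd_mul hp).mp hd with hd | hd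
      · rcases (Nat.Prime.dvd_mul hp).mp hd with hd | hd
        · rcases (Nat.Prime.dvd_mul hp).mp hd with hd | hd
          · rcases (Nat.Prime.dvd_mul hp).mp hd with hd | hd
            · exact h2 ((Nat.prime_dvd_prime_iff_eq hp Nat.prime_two).mp (hp.dvd_of_dvd_pow hd))
            · exact h3 ((Nat.prime_dvd_prime_iff_eq hp Nat.prime_three).mp
                (hp.dvd_of_dvd_pow hd))
          · exact h7 ((Nat.prime_dvd_prime_iff_eq hp (by norm_num : Nat.Prime 7)).mp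
              (hp.dvd_of_dvd_pow hd))
        · have := key 5 (by norm_num) hd h
          norm_num at this
      · have := key 11 (by norm_num) hd h
        norm_num at this
    · have := key 19 (by norm_num) hd h
      norm_num at this
  · have := key 31 (by norm_num) hd h
    norm_num at this

section

variable {φ : ON →* Equiv.Perm (Fin 122760)} {K₁ : Subgroup ON} (H : ONHyp φ K₁)
include H

/-- the bound for the kernels of the stem extensions of the O'Nan group which are `p`-groups -/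
theorem bound_p (p : ℕ) [hp : Fact p.Prime] (Γ : Type) [Group Γ] [Finite Γ]
    (σ : Γ →* ON) (hσ : Cfsg.IsStemExtension σ) (hk : IsPGroup p σ.ker) :
    Nat.card σ.ker ≤ if p = 3 then 3 else 1 := by
  by_cases h3 : p = 3
  · subst h3
    rw [if_pos rfl]
    exact bound3 H Γ σ hσ hk
  · rw [if_neg h3]
    by_cases h2 : p = 2
    · subst h2
      exact bound2 H Γ σ hσ hk
    · by_cases h7 : p = 7
      · subst h7
        exact bound7 H Γ σ hσ hk
      · have h1 : Nat.card σ.ker = 1 := by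
          haveI := finite_ON H
          apply Stem.card_ker_eq_one_of_not_sq_dvd σ hσ p hk
          rw [H.card]
          exact not_sq_dvd p hp.out h2 h3 h7
        omega

/-- the kernel of a stem extension of the O'Nan group has order dividing 3 -/
theorem hub (Γ : Type) [Group Γ] [Finite Γ] (σ : Γ →* ON)
    (hσ : Cfsg.IsStemExtension σ) : Nat.card σ.ker ∣ 3 := by
  apply Stem.card_dvd_of_primary σ 3 (by norm_num) ?_ hσ
  intro p hp Γ' _ _ σ' hσ' hk
  have h1 := bound_p H p Γ' σ' hσ' hk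
  obtain ⟨a, ha⟩ := IsPGroup.iff_card.mp hk
  by_cases h3 : p = 3
  · subst h3
    rw [if_pos rfl] at h1
    rw [ha] at h1 ⊢
    have : a ≤ 1 := by
      by_contra hcon
      have : 3 ^ 2 ≤ 3 ^ a := Nat.pow_le_pow_right (by norm_num) (by omega)
      omega
    interval_cases a <;> norm_num
  · rw [if_neg h3] at h1
    have : Nat.card σ'.ker = 1 := by
      have := Nat.card_pos (α := σ'.ker)
      omega
    rw [this]
    exact one_dvd 3

/-- **the multiplier of the O'Nan group is cyclic of order 3** -/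
theorem multiplier_ON : Cfsg.HasCyclicSchurMultiplier ON 3 := by
  haveI := finite_ON H
  have hperf : commutator ON = ⊤ :=
    commutator_eq_top_of_simple_card H.simple (by rw [H.card]; exact not_prime_card_ON)
  obtain ⟨Γ₀, i1, i2, σ₀, h₀, ⟨e⟩⟩ := exists_cover_ON H.hP hperf
  have hc : Nat.card (Multiplicative (ZMod 3)) = 3 := by
    rw [Nat.card_eq_fintype_card]
    rfl
  exact Stem.hasSchurMultiplier_of_cover_of_bound
    (MulEquiv.refl ON) hperf (Multiplicative (ZMod 3)) σ₀ h₀ e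
    (fun Γ' _ _ σ' hσ' => by
      rw [hc]
      exact Nat.le_of_dvd (by norm_num) (hub H Γ' σ' hσ'))

end

end Cfsg.Agent.Lib.Helper4.ONM
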