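import Cfsg.Agent.Lib.Helper4.ONM.ParT
import Cfsg.Agent.Lib.Helper6.TCD.ONa.Par
import Cfsg.Agent.Lib.Helper6.TCP.ON
import Cfsg.Agent.Lib.Helper4.Sparse.Main

set_option autoImplicit false

/-! # The data of the labelled action of the O'Nan group on 122760 points: the eight letters
(`g`, its inverse and the six involutions), the tree, the relations -/

namespace Cfsg.Agent.Lib.Helper4.ONM

open Cfsg.Agent.Lib.Helper6.TC Cfsg.Agent.Lib.Helper6.TCD Cfsg.Agent.Lib.Helper1.StemSA
open Cfsg.Agent.Lib.Helper4.Sparse

/-- the action of the letters on the points: a letter acts by the table of the inverse column -/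
noncomputable def piON (i j : ℕ) : ℕ := ONa.px (invc Cfsg.Agent.Lib.Helper6.TCP.ON.INV i) j

/-- the letter and the parent of a point in the tree -/
noncomputable def parON (j : ℕ) : ℕ × ℕ := (Nat.land (parT j) 7, Nat.shiftRight (parT j) 3)

/-- the data of the labelled action, for a list of relations -/
noncomputable def DON (rels : List (List ℕ × List ℕ)) : SAData :=
  { k := 8, m := 122760, pi := piON, par := parON, ords := [0, 0, 0, 0, 0, 0, 0, 0],
    rels := rels, specs := [], Bm := fun _ => 0 }

/-- the check of the tree at a point -/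
noncomputable def chkPar (j : ℕ) : Bool :=
  Sparse.sB (fun e => band (Nat.blt (Nat.land e 7) 8) (band (Nat.blt (Nat.shiftRight e 3) j)
    (Nat.beq (piON (Nat.land e 7) (Nat.shiftRight e 3)) j))) (parT j)

theorem chkPar_spec (j : ℕ) (h : chkPar j = true) :
    (parON j).1 < 8 ∧ (parON j).2 < j ∧ piON (parON j).1 (parON j).2 = j := by
  unfold chkPar at h
  rw [Sparse.sB_eq, band_eq_true, band_eq_true, Nat.blt_eq, Nat.blt_eq] at h
  exact ⟨h.1, h.2.1, Nat.eq_of_beq_eq_true h.2.2⟩

/-- the check of the tree on a range of points -/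
noncomputable def chkParRange (lo cnt : ℕ) : Bool := allB (fun i => chkPar (lo + i)) cnt

theorem chkParRange_spec (lo cnt : ℕ) (h : chkParRange lo cnt = true) (j : ℕ) (h1 : lo ≤ j)
    (h2 : j < lo + cnt) : chkPar j = true := by
  have := allB_spec h (j - lo) (by omega)
  have e : lo + (j - lo) = j := by omega
  rwa [e] at this

end Cfsg.Agent.Lib.Helper4.ONM
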