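import Cfsg.Agent.Lib.Helper4.ONM.UPar
import Cfsg.Agent.Lib.Helper4.Sparse.GroupB

set_option autoImplicit false
set_option maxRecDepth 100000

/-! # The labelled action of the O'Nan group on 122760 points: the hypotheses of the bounds, from a
permutation representation given by the tables -/

namespace Cfsg.Agent.Lib.Helper4.ONM

open Cfsg.Spor Cfsg.Agent.Lib.Helper6.TC Cfsg.Agent.Lib.Helper6.TCD Cfsg.Agent.Lib.Helper6.TCP.ON
open Cfsg.Agent.Lib.Helper1.StemSA Cfsg.Agent.Lib.Helper1.MatCode Cfsg.Agent.Lib.Helper4.Sparse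

/-- the hypothesis on the permutation representation: the inverse of a word of letters acts by
the tables -/
def RepHyp (φ : ON →* Equiv.Perm (Fin 122760)) : Prop :=
  ∀ w, (∀ c ∈ w, c < 8) → ∀ p : Fin 122760,
    ((φ (PresentedGroup.mk Rels (wordElt gc w)))⁻¹ p).val = wapp ONa.px w p.val

/-- the action of the group on the points through the representation -/
@[reducible] def actON (φ : ON →* Equiv.Perm (Fin 122760)) : MulAction ON (Fin 122760) :=
  MulAction.compHom (Fin 122760) φ

/-- the points -/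
def ptON (j : ℕ) : Fin 122760 := if h : j < 122760 then ⟨j, h⟩ else ⟨0, by norm_num⟩

theorem ptON_val {j : ℕ} (h : j < 122760) : (ptON j).val = j := by
  unfold ptON
  rw [dif_pos h]

theorem ptON_eq (p : Fin 122760) : ptON p.val = p := by
  apply Fin.ext
  rw [ptON_val p.isLt]

/-- the images of the letters -/
noncomputable def gsON : List ON :=
  [PresentedGroup.mk Rels (ceOf gc 0), PresentedGroup.mk Rels (ceOf gc 1),
    PresentedGroup.mk Rels (ceOf gc 2), PresentedGroup.mk Rels (ceOf gc 3),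
    PresentedGroup.mk Rels (ceOf gc 4), PresentedGroup.mk Rels (ceOf gc 5),
    PresentedGroup.mk Rels (ceOf gc 6), PresentedGroup.mk Rels (ceOf gc 7)]

theorem gsON_getD (i : ℕ) (hi : i < 8) :
    gsON.getD i 1 = PresentedGroup.mk Rels (ceOf gc i) := by
  interval_cases i <;> rfl

theorem wordProd_gsON (w : List ℕ) (hw : ∀ c ∈ w, c < 8) :
    wordProd gsON w = PresentedGroup.mk Rels (wordElt gc w) := by
  induction w with
  | nil => rw [wordProd_nil, wordElt_nil, map_one]
  | cons c w ih =>
    rw [wordProd_cons, wordElt_cons, map_mul, ih (fun d hd => hw d (List.mem_cons_of_mem _ hd)),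
      gsON_getD c (hw c List.mem_cons_self)]

theorem gsON_gen : Subgroup.closure {g : ON | ∃ i < 8, g = gsON.getD i 1} = ⊤ := by
  rw [eq_top_iff, ← PresentedGroup.closure_range_of]
  apply Subgroup.closure_mono
  rintro _ ⟨x, rfl⟩
  refine ⟨col x, col_lt x, ?_⟩
  rw [gsON_getD _ (col_lt x)]
  cases x <;> rfl

section rep

variable {φ : ON →* Equiv.Perm (Fin 122760)} (hφ : RepHyp φ)
include hφ

theorem px_lt (c : ℕ) (hc : c < 8) (p : ℕ) (hp : p < 122760) : ONa.px c p < 122760 := by
  have h := hφ [c] (by simpa using hc) ⟨p, hp⟩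
  rw [wapp_cons, wapp_nil] at h
  rw [← h]
  exact Fin.isLt _

theorem piON_lt (i : ℕ) (hi : i < 8) (j : ℕ) (hj : j < 122760) : piON i j < 122760 :=
  px_lt hφ _ (hinv1 i hi) j hj

/-- the action of a letter on a point -/
theorem phi_letter (i : ℕ) (hi : i < 8) (p : Fin 122760) :
    (φ (PresentedGroup.mk Rels (ceOf gc i)) p).val = piON i p.val := by
  have h := hφ [invc INV i] (by simpa using hinv1 i hi) p
  rw [wapp_cons, wapp_nil, wordElt_cons, wordElt_nil, mul_one, hinvG i hi, map_inv, inv_inv] at h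
  exact h

theorem pi_act_ON (i : ℕ) (hi : i < 8) (j : ℕ) (hj : j < 122760) :
    letI := actON φ
    gsON.getD i 1 • ptON j = ptON (piON i j) := by
  rw [gsON_getD i hi]
  apply Fin.ext
  rw [ptON_val (piON_lt hφ i hi j hj)]
  show (φ (PresentedGroup.mk Rels (ceOf gc i)) (ptON j)).val = _
  rw [phi_letter hφ i hi, ptON_val hj]

/-- the structural check of the data -/
theorem chkStruct_DON (rels : List (List ℕ × List ℕ))
    (hrels : ∀ w ∈ rels, (∀ i ∈ w.1, i < 8) ∧ ∀ i ∈ w.2, i < 8) :
    (DON rels).chkStruct = true := by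
  unfold SAData.chkStruct
  simp only [Bool.and_eq_true, List.all_eq_true, List.mem_range, decide_eq_true_eq,
    Bool.or_eq_true, beq_iff_eq]
  refine ⟨⟨⟨?_, ?_⟩, ?_⟩, ?_⟩
  · intro i hi j hj
    exact piON_lt hφ i hi j hj
  · intro j hj
    rcases Nat.eq_zero_or_pos j with h0 | h0
    · exact Or.inl h0
    · right
      have h := chkPar_spec j (chkPar_all j h0 hj)
      exact ⟨⟨h.1, h.2.1⟩, h.2.2⟩
  · rfl
  · intro w hw
    exact hrels w hw

end rep

/-- the relations hold in the group -/
theorem hrel_ON (rels : List (List ℕ × List ℕ)) (hrels : ∀ w ∈ rels, w.1 ∈ base ∧ w.2 = []) :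
    ∀ w ∈ rels, wordProd gsON w.1 = wordProd gsON w.2 := by
  intro w hw
  obtain ⟨h1, h2⟩ := hrels w hw
  rw [h2, wordProd_nil, wordProd_gsON w.1 (hbl w.1 h1), hbase w.1 h1]

theorem pt_zero_ON : ∀ j < 122760, ptON j = ptON 0 → j = 0 := by
  intro j hj h
  have := congrArg Fin.val h
  rwa [ptON_val hj, ptON_val (by norm_num)] at this

end Cfsg.Agent.Lib.Helper4.ONM
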