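import Cfsg.Agent.Lib.Helper4.ONM.UD
set_option autoImplicit false
set_option maxRecDepth 1000000
set_option Elab.async false

/-! # The check of the tree of the Schreier graph of the O'Nan group -/

namespace Cfsg.Agent.Lib.Helper4.ONM

theorem cpar_0 : chkParRange 1 8192 = true := by decide +kernel
theorem cpar_1 : chkParRange 8193 8192 = true := by decide +kernel
theorem cpar_2 : chkParRange 16385 8192 = true := by decide +kernel
theorem cpar_3 : chkParRange 24577 8192 = true := by decide +kernel
theorem cpar_4 : chkParRange 32769 8192 = true := by decide +kernel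
theorem cpar_5 : chkParRange 40961 8192 = true := by decide +kernel
theorem cpar_6 : chkParRange 49153 8192 = true := by decide +kernel
theorem cpar_7 : chkParRange 57345 8192 = true := by decide +kernel
theorem cpar_8 : chkParRange 65537 8192 = true := by decide +kernel
theorem cpar_9 : chkParRange 73729 8192 = true := by decide +kernel
theorem cpar_10 : chkParRange 81921 8192 = true := by decide +kernel
theorem cpar_11 : chkParRange 90113 8192 = true := by decide +kernel
theorem cpar_12 : chkParRange 98305 8192 = true := by decide +kernel
theorem cpar_13 : chkParRange 106497 8192 = true := by decide +kernel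
theorem cpar_14 : chkParRange 114689 8071 = true := by decide +kernel

theorem chkPar_all (j : ℕ) (h1 : 1 ≤ j) (h2 : j < 122760) : chkPar j = true := by
  rcases Nat.lt_or_ge j 8193 with g0 | g0
  · exact chkParRange_spec 1 8192 cpar_0 j (by omega) (by omega)
  rcases Nat.lt_or_ge j 16385 with g1 | g1
  · exact chkParRange_spec 8193 8192 cpar_1 j (by omega) (by omega)
  rcases Nat.lt_or_ge j 24577 with g2 | g2
  · exact chkParRange_spec 16385 8192 cpar_2 j (by omega) (by omega)
  rcases Nat.lt_or_ge j 32769 with g3 | g3
  · exact chkParRange_spec 24577 8192 cpar_3 j (by omega) (by omega)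
  rcases Nat.lt_or_ge j 40961 with g4 | g4
  · exact chkParRange_spec 32769 8192 cpar_4 j (by omega) (by omega)
  rcases Nat.lt_or_ge j 49153 with g5 | g5
  · exact chkParRange_spec 40961 8192 cpar_5 j (by omega) (by omega)
  rcases Nat.lt_or_ge j 57345 with g6 | g6
  · exact chkParRange_spec 49153 8192 cpar_6 j (by omega) (by omega)
  rcases Nat.lt_or_ge j 65537 with g7 | g7
  · exact chkParRange_spec 57345 8192 cpar_7 j (by omega) (by omega)
  rcases Nat.lt_or_ge j 73729 with g8 | g8
  · exact chkParRange_spec 65537 8192 cpar_8 j (by omega) (by omega)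
  rcases Nat.lt_or_ge j 81921 with g9 | g9
  · exact chkParRange_spec 73729 8192 cpar_9 j (by omega) (by omega)
  rcases Nat.lt_or_ge j 90113 with g10 | g10
  · exact chkParRange_spec 81921 8192 cpar_10 j (by omega) (by omega)
  rcases Nat.lt_or_ge j 98305 with g11 | g11
  · exact chkParRange_spec 90113 8192 cpar_11 j (by omega) (by omega)
  rcases Nat.lt_or_ge j 106497 with g12 | g12
  · exact chkParRange_spec 98305 8192 cpar_12 j (by omega) (by omega)
  rcases Nat.lt_or_ge j 114689 with g13 | g13
  · exact chkParRange_spec 106497 8192 cpar_13 j (by omega) (by omega)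
  exact chkParRange_spec 114689 8071 cpar_14 j (by omega) (by omega)

end Cfsg.Agent.Lib.Helper4.ONM
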